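import Groth.Agent.BlowUpLib.Local
import Groth.Agent.MorLib.IdealFG2
import Groth.Agent.BlowUpX.Basic

/-!
# Strict transforms of closed subschemes: existence, uniqueness, functoriality
-/

set_option autoImplicit false
set_option linter.style.haveILetI false
set_option backward.isDefEq.respectTransparency false
set_option backward.isDefEq.respectTransparency.types false

universe u

open CategoryTheory Limits AlgebraicGeometry TopologicalSpace

namespace Groth.Agent.StrictST17

variable {X Y : Scheme.{u}}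

/-- `a` is killed on `W` by a power of `E`. -/
def Killed (E : X.IdealSheafData) (W : X.affineOpens) (a : Γ(X, W.1)) : Prop :=
  ∃ n : ℕ, ∀ c ∈ (E.ideal W) ^ n, c * a = 0

theorem killed_iff (E : X.IdealSheafData) (W : X.affineOpens) (a : Γ(X, W.1)) :
    Killed E W a ↔ BlowUp.KilledByPowerNear E (Coh.structureModule X) W a :=
  exists_congr fun n => forall₂_congr fun c _ => Iff.rfl

/-- The defining property of the ideal of a strict transform. -/
def IsST (E 𝒥 : X.IdealSheafData) : Prop :=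
  ∀ (W : X.affineOpens) (a : Γ(X, W.1)), a ∈ 𝒥.ideal W ↔
    BlowUp.KilledByPowerNear E (Coh.structureModule X) W a

theorem IsST.mem_iff {E 𝒥 : X.IdealSheafData} (h : IsST E 𝒥) (W : X.affineOpens) (a : Γ(X, W.1)) :
    a ∈ 𝒥.ideal W ↔ Killed E W a := (h W a).trans (killed_iff E W a).symm

variable {E : X.IdealSheafData} {W : X.affineOpens}

theorem killed_add {a a' : Γ(X, W.1)} (h : Killed E W a) (h' : Killed E W a') : Killed E W (a + a') := by
  obtain ⟨n, hn⟩ := h
  obtain ⟨m, hm⟩ := h'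
  refine ⟨n + m, fun c hc => ?_⟩
  rw [mul_add, hn c (Ideal.pow_le_pow_right (by omega) hc), hm c (Ideal.pow_le_pow_right (by omega) hc),
    add_zero]

theorem killed_mul (r : Γ(X, W.1)) {a : Γ(X, W.1)} (h : Killed E W a) : Killed E W (r * a) :=
  h.imp fun n hn c hc => by rw [mul_left_comm, hn c hc, mul_zero]

theorem killed_zero : Killed E W (0 : Γ(X, W.1)) := ⟨0, fun _ _ => mul_zero _⟩

variable (E W) in
/-- The killed sections form an ideal. -/
def killedIdeal : Ideal Γ(X, W.1) where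
  carrier := {a | Killed E W a}
  add_mem' := killed_add
  zero_mem' := killed_zero
  smul_mem' r _ h := killed_mul r h

theorem killed_mono {E' : X.IdealSheafData} (hE : E' ≤ E) {a : Γ(X, W.1)} (h : Killed E W a) :
    Killed E' W a :=
  h.imp fun n hn c hc => hn c (Ideal.pow_right_mono (hE W) n hc)

theorem res_pow {D : X.affineOpens} (h : D.1 ≤ W.1) (E : X.IdealSheafData) (n : ℕ) :
    ((E.ideal W) ^ n).map (X.presheaf.map (homOfLE h).op).hom = (E.ideal D) ^ n := by
  exact (Ideal.map_pow _ _ n).trans (congrArg (· ^ n) (E.map_ideal (U := D) (V := W) h))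

/-- Being killed is local. -/
theorem killed_of_local {a : Γ(X, W.1)} (h : ∀ x ∈ W.1, ∃ (D : X.affineOpens) (e : D.1 ≤ W.1), x ∈ D.1 ∧
    Killed E D ((X.presheaf.map (homOfLE e).op).hom a)) : Killed E W a := by
  choose D e hxD n hn using fun x : W.1 => h x.1 x.2
  obtain ⟨s, hs⟩ := W.2.isCompact.elim_finite_subcover (fun x : W.1 => ((D x).1 : Set X))
    (fun x => (D x).1.isOpen) (fun x hx => Set.mem_iUnion.mpr ⟨⟨x, hx⟩, hxD ⟨x, hx⟩⟩)
  refine ⟨s.sup n, fun c hc => X.IsSheaf.section_ext fun x hx => ?_⟩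
  obtain ⟨y, hy, hxy⟩ := Set.mem_iUnion₂.mp (hs hx)
  refine ⟨(D y).1, e y, hxy, ?_⟩
  rw [map_zero, map_mul]
  refine hn y _ ?_
  refine Ideal.pow_le_pow_right (Finset.le_sup (f := n) hy) ?_
  exact (res_pow (e y) E _).le (Ideal.mem_map_of_mem _ hc)

theorem killed_res {D : X.affineOpens} (h : D.1 ≤ W.1) {a : Γ(X, W.1)} (ha : Killed E W a) :
    Killed E D ((X.presheaf.map (homOfLE h).op).hom a) := by
  obtain ⟨n, hn⟩ := ha
  refine ⟨n, fun c hc => ?_⟩
  rw [← res_pow h E n] at hc
  induction hc using Submodule.span_induction with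
  | mem c hc =>
    obtain ⟨c', hc', rfl⟩ := hc
    rw [← map_mul, hn c' hc', map_zero]
  | zero => exact zero_mul _
  | add c c' _ _ h h' => rw [add_mul, h, h', add_zero]
  | smul r c _ h => rw [smul_eq_mul, mul_assoc, h, mul_zero]

theorem killedIdeal_map (hE : BlowUp.IsFiniteTypeIdeal E) (W : X.affineOpens) (f : Γ(X, W.1)) :
    (killedIdeal E W).map (X.presheaf.map (homOfLE <| X.basicOpen_le f).op).hom =
      killedIdeal E (X.affineBasicOpen f) := by
  classical
  refine le_antisymm (Ideal.map_le_iff_le_comap.mpr fun a ha =>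
    killed_res (D := X.affineBasicOpen f) (X.basicOpen_le f) ha) fun a' ⟨n, hn⟩ => ?_
  haveI := W.2.isLocalization_basicOpen f
  obtain ⟨r, ⟨_, k, rfl⟩, hr⟩ := IsLocalization.exists_mk'_eq (Submonoid.powers f) a'
  obtain ⟨s, hs⟩ := Submodule.FG.pow (hE W) n
  set ρ := (X.presheaf.map (homOfLE <| X.basicOpen_le f).op).hom
  have hρr : ρ r = a' * ρ (f ^ k) :=
    ((IsLocalization.eq_mk'_iff_mul_eq (M := Submonoid.powers f)).mp hr.symm).symm
  have hgen : ∀ g ∈ s, ∃ l : ℕ, f ^ l * (g * r) = 0 := by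
    intro g hg
    have h0 : ρ (g * r) = 0 := by
      have hg' : g ∈ E.ideal W ^ n := hs.le (Ideal.subset_span hg)
      have hρg : ρ g * a' = 0 := hn (ρ g) ((res_pow (D := X.affineBasicOpen f) (X.basicOpen_le f) E n).le
        (Ideal.mem_map_of_mem _ hg'))
      rw [map_mul, hρr, ← mul_assoc, hρg, zero_mul]
    obtain ⟨⟨_, l, rfl⟩, hl⟩ :=
      (IsLocalization.map_eq_zero_iff (Submonoid.powers f) Γ(X, X.basicOpen f) _).mp
        (show algebraMap Γ(X, W.1) Γ(X, X.basicOpen f) (g * r) = 0 from h0)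
    exact ⟨l, hl⟩
  choose l hl using hgen
  let L := s.attach.sup fun g => l g.1 g.2
  have hk : f ^ L * r ∈ killedIdeal E W := by
    refine ⟨n, fun c hc => ?_⟩
    rw [← hs] at hc
    induction hc using Submodule.span_induction with
    | mem g hg =>
      have hle : l g hg ≤ L := Finset.le_sup (f := fun g : s => l g.1 g.2) (Finset.mem_attach _ ⟨g, hg⟩)
      obtain ⟨d, hd⟩ := Nat.exists_eq_add_of_le hle
      rw [hd, pow_add, show g * (f ^ l g hg * f ^ d * r) = f ^ d * (f ^ l g hg * (g * r)) by ring,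
        hl g hg, mul_zero]
    | zero => exact zero_mul _
    | add c c' _ _ h h' => rw [add_mul, h, h', add_zero]
    | smul r c _ h => rw [smul_eq_mul, mul_assoc, h, mul_zero]
  have hu : IsUnit (ρ (f ^ L * f ^ k)) := by
    rw [← pow_add, map_pow]
    exact (IsLocalization.Away.algebraMap_isUnit (S := Γ(X, X.basicOpen f)) f).pow _
  obtain ⟨v, hv⟩ := hu.exists_right_inv
  have ha : a' = ρ (f ^ L * r) * v := by
    rw [map_mul, hρr]
    rw [map_mul] at hv
    linear_combination (-a') * hv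
  rw [ha]
  exact Ideal.mul_mem_right _ _ (Ideal.mem_map_of_mem _ hk)

/-- Existence of strict transforms for centres of finite type. -/
theorem exists_isST (hE : BlowUp.IsFiniteTypeIdeal E) : ∃ 𝒥 : X.IdealSheafData, IsST E 𝒥 :=
  ⟨{ ideal := killedIdeal E, map_ideal_basicOpen := killedIdeal_map hE },
    fun W a => killed_iff E W a⟩

/-- Uniqueness: a closed subscheme cut out by killed functions, on which the exceptional ideal is
effective Cartier, is the strict transform. -/
theorem IsST.unique {𝒥 K : X.IdealSheafData} (h : IsST E 𝒥)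
    (hK : ∀ (W : X.affineOpens), ∀ a ∈ K.ideal W, Killed E W a)
    (hC : BlowUp.IsEffCartierIdeal (E.comap K.subschemeι)) : 𝒥 = K := by
  refine Scheme.IdealSheafData.ext (funext fun W => le_antisymm (fun a ha => ?_) fun a ha =>
    (h.mem_iff W a).mpr (hK W a ha))
  obtain ⟨n, hn⟩ := (h.mem_iff W a).mp ha
  rw [← K.ker_subschemeι, Scheme.Hom.ker_apply, RingHom.mem_ker]
  refine K.subscheme.IsSheaf.section_ext fun y hy => ?_
  obtain ⟨U, hyU, t, -, ht⟩ := hC y
  obtain ⟨r, hr, hyr⟩ := U.2.exists_basicOpen_le (V := K.subschemeι ⁻¹ᵁ W.1) ⟨y, hy⟩ hyU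
  let D : K.subscheme.affineOpens := ⟨K.subscheme.basicOpen r, U.2.basicOpen r⟩
  refine ⟨D.1, hr, hyr, ?_⟩
  set ψ := (K.subschemeι.appLE W.1 D.1 hr).hom
  let t' := (K.subscheme.presheaf.map (homOfLE (K.subscheme.basicOpen_le r)).op).hom t
  have hD : (E.comap K.subschemeι).ideal D = Ideal.span {t'} := by
    rw [← (E.comap K.subschemeι).map_ideal (U := D) (V := U) (K.subscheme.basicOpen_le r), ht,
      Ideal.map_span, Set.image_singleton]
    rfl
  have ht' := ModPairLib.generator_mem_nonZeroDivisors hC hD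
  rw [map_zero]
  show ψ a = 0
  have hmem : t' ^ n ∈ ((E.ideal W) ^ n).map ψ := by
    rw [Ideal.map_pow, ← ModPairLib.ideal_comap E K.subschemeι W D hr, hD, Ideal.span_singleton_pow]
    exact Ideal.mem_span_singleton_self _
  have hz : ∀ z ∈ ((E.ideal W) ^ n).map ψ, z * ψ a = 0 := by
    intro z hz
    induction hz using Submodule.span_induction with
    | mem c hc =>
      obtain ⟨c', hc', rfl⟩ := hc
      rw [← map_mul, hn c' hc', map_zero]
    | zero => exact zero_mul _
    | add c c' _ _ h h' => rw [add_mul, h, h', add_zero]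
    | smul r c _ h => rw [smul_eq_mul, mul_assoc, h, mul_zero]
  exact mem_nonZeroDivisors_iff_left.mp (pow_mem ht' n) _ (hz _ hmem)

/-- The inverse image of a killed ideal is killed by every smaller centre. -/
theorem killed_comap {E₁ 𝒥₁ : Y.IdealSheafData} (h : ∀ (W : Y.affineOpens), ∀ a ∈ 𝒥₁.ideal W, Killed E₁ W a)
    (q : X ⟶ Y) (hE : E ≤ E₁.comap q) (W : X.affineOpens) (a : Γ(X, W.1))
    (ha : a ∈ (𝒥₁.comap q).ideal W) : Killed E W a := by
  refine killed_of_local fun x hx => ?_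
  obtain ⟨V, hV, hxV, -⟩ := exists_isAffineOpen_mem_and_subset (x := q x) (U := ⊤) trivial
  obtain ⟨D, hD, hxD, hDWV⟩ := exists_isAffineOpen_mem_and_subset (x := x) (U := W.1 ⊓ q ⁻¹ᵁ V) ⟨hx, hxV⟩
  have hDW : D ≤ W.1 := fun z hz => (hDWV hz).1
  have hDV : D ≤ q ⁻¹ᵁ V := fun z hz => (hDWV hz).2
  refine ⟨⟨D, hD⟩, hDW, hxD, ?_⟩
  have hmem : (X.presheaf.map (homOfLE hDW).op).hom a ∈ (𝒥₁.ideal ⟨V, hV⟩).map (q.appLE V D hDV).hom := by
    rw [← ModPairLib.ideal_comap 𝒥₁ q ⟨V, hV⟩ ⟨D, hD⟩ hDV,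
      ← (𝒥₁.comap q).map_ideal (U := ⟨D, hD⟩) (V := W) hDW]
    exact Ideal.mem_map_of_mem _ ha
  generalize (X.presheaf.map (homOfLE hDW).op).hom a = w at hmem ⊢
  induction hmem using Submodule.span_induction with
  | mem c hc =>
    obtain ⟨c', hc', rfl⟩ := hc
    obtain ⟨n, hn⟩ := h ⟨V, hV⟩ c' hc'
    refine killed_mono hE ⟨n, fun z hz => ?_⟩
    rw [ModPairLib.ideal_comap E₁ q ⟨V, hV⟩ ⟨D, hD⟩ hDV, ← Ideal.map_pow] at hz
    induction hz using Submodule.span_induction with
    | mem z hz => obtain ⟨z', hz', rfl⟩ := hz; rw [← map_mul, hn z' hz', map_zero]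
    | zero => exact zero_mul _
    | add c c' _ _ h h' => rw [add_mul, h, h', add_zero]
    | smul r c _ h => rw [smul_eq_mul, mul_assoc, h, mul_zero]
  | zero => exact killed_zero
  | add c c' _ _ h h' => exact killed_add h h'
  | smul r c _ h => exact killed_mul r h

/-- Away from the centre the strict transform is everything. -/
theorem IsST.comap_ι_eq_bot {𝒥 : X.IdealSheafData} (h : IsST E 𝒥) (O : X.Opens)
    (hO : Disjoint (E.support : Set X) (O : Set X)) : 𝒥.comap O.ι = ⊥ := by
  rw [← Scheme.IdealSheafData.comap_bot O.ι]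
  refine le_antisymm (MorLib.IdealFG.comap_le_of_forall fun W hW a ha => ?_)
    (Scheme.IdealSheafData.comap_mono O.ι bot_le)
  obtain ⟨n, hn⟩ := (h.mem_iff W a).mp ha
  have htop : E.ideal W = ⊤ := BlowUpX.ideal_eq_top_of_disjoint E W fun x hx hxE =>
    Set.disjoint_left.mp hO hxE (hW hx)
  have := hn 1 (by rw [htop, Ideal.top_pow]; trivial)
  rw [one_mul] at this
  rw [this]
  exact zero_mem _

end Groth.Agent.StrictST17
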