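import Groth.Agent.StrictST17.CommonTarget

/-!
# Birational morphisms after admissible blow ups
-/

set_option autoImplicit false
set_option linter.style.haveILetI false
set_option backward.isDefEq.respectTransparency false
set_option backward.isDefEq.respectTransparency.types false

universe u

open CategoryTheory Limits AlgebraicGeometry TopologicalSpace

namespace Groth.Agent.StrictST17

variable {X Y : Scheme.{u}}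

theorem isOpenImmersion_restrict_of_le (φ : X ⟶ Y) (R U : Y.Opens) (h : R ≤ U) [IsIso (φ ∣_ U)] :
    IsOpenImmersion (φ ∣_ R) := by
  haveI : IsOpenImmersion ((φ ∣_ R) ≫ R.ι) := by
    rw [morphismRestrict_ι, ← X.homOfLE_ι (show φ ⁻¹ᵁ R ≤ φ ⁻¹ᵁ U from fun _ hx => h hx), Category.assoc,
      ← morphismRestrict_ι]
    infer_instance
  exact IsOpenImmersion.of_comp _ R.ι

theorem isAdmissibleFor_comap (φ : X ⟶ Y) (R : Y.Opens) {I : Y.IdealSheafData}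
    (hI : BlowUp.IsAdmissibleFor R I) : BlowUp.IsAdmissibleFor (φ ⁻¹ᵁ R) (I.comap φ) :=
  ⟨MorLib.IdealFG.isFG_comap hI.1 φ, Set.disjoint_left.2 fun x hx hxR => by
    rw [Scheme.IdealSheafData.support_comap] at hx
    exact Set.disjoint_left.1 hI.2 hx hxR⟩

theorem birational_openImmersion (H : FlatteningProp.{u}) [CompactSpace Y] [QuasiSeparatedSpace Y]
    (f : X ⟶ Y) [IsSeparated f] [QuasiCompact f] [LocallyOfFiniteType f]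
    (U : Y.Opens) (hU : IsCompact (U : Set Y)) [IsIso (f ∣_ U)] :
    ∃ (𝓘 : X.IdealSheafData) (𝓙 : Y.IdealSheafData) (X' Y' : Scheme.{u}) (b : X' ⟶ X) (c : Y' ⟶ Y) (j : X' ⟶ Y'),
      BlowUp.IsBlowUp b 𝓘 ∧ BlowUp.IsAdmissibleFor (f ⁻¹ᵁ U) 𝓘 ∧
      BlowUp.IsBlowUp c 𝓙 ∧ BlowUp.IsAdmissibleFor U 𝓙 ∧
      IsOpenImmersion j ∧ j ≫ c = b ≫ f := by
  obtain ⟨I, hI, hpiece⟩ := exists_piece H f U hU
  obtain ⟨Z, z, hz⟩ := BlowUpLib.exists_blowUp (I.comap f)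
  obtain ⟨K, Y', c, w, hc, hK, hw, hwc⟩ := hpiece ⊤ ⟨fun W => by
      rw [Scheme.IdealSheafData.ideal_top, Pi.top_apply]; exact ⟨{1}, by simp⟩,
    by rw [Scheme.IdealSheafData.support_top]; simp⟩ Z z (by rwa [Scheme.IdealSheafData.mul_top])
  exact ⟨I.comap f, K, Z, Y', z, c, w, hz, isAdmissibleFor_comap f U hI, hc, hK, hw, hwc⟩

theorem birational_common_blowUp (H : FlatteningProp.{u}) [CompactSpace Y] [QuasiSeparatedSpace Y]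
    (f : X ⟶ Y) [IsProper f] (U : Y.Opens) (hU : IsCompact (U : Set Y)) [IsIso (f ∣_ U)] :
    ∃ (𝓘' : X.IdealSheafData) (𝓘 : Y.IdealSheafData) (Z : Scheme.{u}) (c' : Z ⟶ X),
      BlowUp.IsBlowUp c' 𝓘' ∧ BlowUp.IsAdmissibleFor (f ⁻¹ᵁ U) 𝓘' ∧
      BlowUp.IsBlowUp (c' ≫ f) 𝓘 ∧ BlowUp.IsAdmissibleFor U 𝓘 := by
  obtain ⟨I, Y', b, hb, hI, -, hiso⟩ := exists_isIso H f U hU
  obtain ⟨𝒥, h𝒥⟩ := exists_isST (E := (I.comap f).comap (pullback.fst f b))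
    (MorLib.IdealFG.isFG_comap (MorLib.IdealFG.isFG_comap hI.1 f) _)
  haveI := hiso _ _ _ (IsPullback.of_hasPullback f b) 𝒥 h𝒥
  let o := 𝒥.subschemeι ≫ pullback.snd f b
  let c := 𝒥.subschemeι ≫ pullback.fst f b
  have hoc : c ≫ f = o ≫ b := by simp only [o, c, Category.assoc, pullback.condition]
  have hc : BlowUp.IsBlowUp c (I.comap f) := isBlowUp_strictTransform f hb (IsPullback.of_hasPullback f b) h𝒥 (by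
    rw [← Scheme.IdealSheafData.comap_comp _ 𝒥.subschemeι, ← Scheme.IdealSheafData.comap_comp]
    show BlowUp.IsEffCartierIdeal (I.comap (c ≫ f))
    rw [hoc, Scheme.IdealSheafData.comap_comp]
    exact BlowUpLib.isEffCartier_comap_flat o hb.1)
  exact ⟨I.comap f, I, _, c, hc, isAdmissibleFor_comap f U hI, hoc ▸ BlowUpLib.isBlowUp_iso_comp o hb, hI⟩

set_option maxHeartbeats 1000000 in
theorem two_birational (H : FlatteningProp.{u}) {Y₁ Y₂ : Scheme.{u}} [CompactSpace X] [QuasiSeparatedSpace X]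
    [CompactSpace Y₁] [QuasiSeparatedSpace Y₁] [CompactSpace Y₂] [QuasiSeparatedSpace Y₂]
    (π₁ : X ⟶ Y₁) (π₂ : X ⟶ Y₂)
    [IsSeparated π₁] [QuasiCompact π₁] [LocallyOfFiniteType π₁]
    [IsSeparated π₂] [QuasiCompact π₂] [LocallyOfFiniteType π₂]
    (U₁ : Y₁.Opens) (U₂ : Y₂.Opens) (hU₁ : IsCompact (U₁ : Set Y₁)) (hU₂ : IsCompact (U₂ : Set Y₂))
    [IsIso (π₁ ∣_ U₁)] [IsIso (π₂ ∣_ U₂)] :
    ∃ (𝓘 : X.IdealSheafData) (𝓙₁ : Y₁.IdealSheafData) (𝓙₂ : Y₂.IdealSheafData)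
      (Xt Yt₁ Yt₂ : Scheme.{u}) (b : Xt ⟶ X) (c₁ : Yt₁ ⟶ Y₁) (c₂ : Yt₂ ⟶ Y₂) (j₁ : Xt ⟶ Yt₁) (j₂ : Xt ⟶ Yt₂),
      BlowUp.IsBlowUp b 𝓘 ∧ BlowUp.IsAdmissibleFor (π₁ ⁻¹ᵁ U₁ ⊓ π₂ ⁻¹ᵁ U₂) 𝓘 ∧
      BlowUp.IsBlowUp c₁ 𝓙₁ ∧ BlowUp.IsFiniteTypeIdeal 𝓙₁ ∧
        Disjoint (𝓙₁.support : Set Y₁) ((fun x => π₁ x) '' ((π₁ ⁻¹ᵁ U₁ ⊓ π₂ ⁻¹ᵁ U₂ : X.Opens) : Set X)) ∧
      BlowUp.IsBlowUp c₂ 𝓙₂ ∧ BlowUp.IsFiniteTypeIdeal 𝓙₂ ∧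
        Disjoint (𝓙₂.support : Set Y₂) ((fun x => π₂ x) '' ((π₁ ⁻¹ᵁ U₁ ⊓ π₂ ⁻¹ᵁ U₂ : X.Opens) : Set X)) ∧
      IsOpenImmersion j₁ ∧ IsOpenImmersion j₂ ∧ j₁ ≫ c₁ = b ≫ π₁ ∧ j₂ ≫ c₂ = b ≫ π₂ := by
  set O : X.Opens := π₁ ⁻¹ᵁ U₁ ⊓ π₂ ⁻¹ᵁ U₂ with hO
  have hc₁ : IsCompact ((π₁ ⁻¹ᵁ U₁ : X.Opens) : Set X) := QuasiCompact.isCompact_preimage (f := π₁) _ U₁.isOpen hU₁
  have hc₂ : IsCompact ((π₂ ⁻¹ᵁ U₂ : X.Opens) : Set X) := QuasiCompact.isCompact_preimage (f := π₂) _ U₂.isOpen hU₂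
  have hOc : IsCompact (O : Set X) :=
    QuasiSeparatedSpace.inter_isCompact _ _ (π₁ ⁻¹ᵁ U₁).isOpen hc₁ (π₂ ⁻¹ᵁ U₂).isOpen hc₂
  have key : ∀ {Y : Scheme.{u}} (π : X ⟶ Y) (U : Y.Opens) [IsIso (π ∣_ U)], O ≤ π ⁻¹ᵁ U →
      ∃ R : Y.Opens, (R : Set Y) = (fun x => π x) '' (O : Set X) ∧ π ⁻¹ᵁ R = O ∧ R ≤ U := by
    intro Y π U _ hle
    haveI : IsOpenImmersion (O.ι ≫ π) := by
      rw [← X.homOfLE_ι hle, Category.assoc, ← morphismRestrict_ι]; infer_instance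
    have hR : ((O.ι ≫ π).opensRange : Set Y) = (fun x => π x) '' (O : Set X) := by
      show Set.range (O.ι ≫ π) = _
      rw [Scheme.Hom.comp_base, TopCat.coe_comp, Set.range_comp, Scheme.Opens.range_ι]
    refine ⟨(O.ι ≫ π).opensRange, hR, le_antisymm (fun x hx => ?_) fun x hx => hR.ge ⟨x, hx, rfl⟩, fun y hy => ?_⟩
    · obtain ⟨o, ho, hox⟩ := hR.le hx
      have hxU : x ∈ π ⁻¹ᵁ U := by
        show π x ∈ U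
        rw [← show π o = π x from hox]; exact hle ho
      have : (⟨o, hle ho⟩ : ↥(π ⁻¹ᵁ U)) = ⟨x, hxU⟩ := (π ∣_ U).homeomorph.injective (Subtype.ext (by
        show ((π ∣_ U) ⟨o, hle ho⟩).1 = ((π ∣_ U) ⟨x, hxU⟩).1
        rw [morphismRestrict_base_coe, morphismRestrict_base_coe]
        exact hox))
      have e : o = x := congrArg Subtype.val this
      rw [← e]; exact ho
    · obtain ⟨o, ho, rfl⟩ := hR.le hy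
      exact hle ho
  obtain ⟨R₁, hR₁, hpre₁, hle₁⟩ := key π₁ U₁ inf_le_left
  obtain ⟨R₂, hR₂, hpre₂, hle₂⟩ := key π₂ U₂ inf_le_right
  haveI := isOpenImmersion_restrict_of_le π₁ R₁ U₁ hle₁
  haveI := isOpenImmersion_restrict_of_le π₂ R₂ U₂ hle₂
  obtain ⟨I₁, hI₁, hpiece₁⟩ := exists_piece H π₁ R₁ (hR₁ ▸ hOc.image π₁.continuous)
  obtain ⟨I₂, hI₂, hpiece₂⟩ := exists_piece H π₂ R₂ (hR₂ ▸ hOc.image π₂.continuous)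
  have hA₁ := isAdmissibleFor_comap π₁ R₁ hI₁
  have hA₂ := isAdmissibleFor_comap π₂ R₂ hI₂
  rw [hpre₁] at hA₁
  rw [hpre₂] at hA₂
  obtain ⟨Z, z, hz⟩ := BlowUpLib.exists_blowUp (I₁.comap π₁ * I₂.comap π₂)
  obtain ⟨K₁, T₁, c₁, j₁, hb₁, hK₁, hj₁, hjc₁⟩ := hpiece₁ _ (hpre₁.symm ▸ hA₂) Z z hz
  obtain ⟨K₂, T₂, c₂, j₂, hb₂, hK₂, hj₂, hjc₂⟩ :=
    hpiece₂ _ (hpre₂.symm ▸ hA₁) Z z (mul_comm (I₁.comap π₁) (I₂.comap π₂) ▸ hz)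
  exact ⟨_, K₁, K₂, Z, T₁, T₂, z, c₁, c₂, j₁, j₂, hz, isAdmissibleFor_mul hA₁ hA₂, hb₁, hK₁.1, hR₁ ▸ hK₁.2,
    hb₂, hK₂.1, hR₂ ▸ hK₂.2, hj₁, hj₂, hjc₁, hjc₂⟩

end Groth.Agent.StrictST17
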