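import Groth.Agent.StrictST17.Core
import Groth.Agent.BlowUpX.Basic

/-!
# Opens avoiding the centre lift to the blowing up
-/

set_option autoImplicit false
set_option linter.style.haveILetI false
set_option backward.isDefEq.respectTransparency false
set_option backward.isDefEq.respectTransparency.types false

universe u

open CategoryTheory Limits AlgebraicGeometry TopologicalSpace

namespace Groth.Agent.StrictST17

variable {X X' T : Scheme.{u}}

/-- The lift of an open immersion avoiding the centre is an open immersion onto the preimage. -/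
theorem exists_lift_open {K : X.IdealSheafData} {b : X' ⟶ X} (hb : BlowUp.IsBlowUp b K) (j : T ⟶ X)
    [IsOpenImmersion j] (hj : Disjoint (K.support : Set X) (j.opensRange : Set X)) :
    ∃ u : T ⟶ X', IsOpenImmersion u ∧ u ≫ b = j ∧ Set.range u = ((b ⁻¹ᵁ j.opensRange : X'.Opens) : Set X') := by
  set O : X.Opens := K.support.compl
  haveI := BlowUpX.isIso_restrict hb
  have hjO : Set.range j ⊆ Set.range O.ι := by
    rw [Scheme.Opens.range_ι]
    exact fun x hx hxK => Set.disjoint_left.1 hj hxK hx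
  let l := IsOpenImmersion.lift O.ι j hjO
  haveI : IsOpenImmersion l := by
    have : IsOpenImmersion (l ≫ O.ι) := by rw [IsOpenImmersion.lift_fac]; infer_instance
    exact IsOpenImmersion.of_comp l O.ι
  let u := l ≫ inv (b ∣_ O) ≫ (b ⁻¹ᵁ O).ι
  have hu : u ≫ b = j := by
    simp only [u, Category.assoc]
    rw [← morphismRestrict_ι, IsIso.inv_hom_id_assoc, IsOpenImmersion.lift_fac]
  refine ⟨u, inferInstance, hu, Set.Subset.antisymm ?_ fun y hy => ?_⟩
  · rintro _ ⟨t, rfl⟩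
    exact ⟨t, by rw [← Scheme.Hom.comp_apply, hu]⟩
  · obtain ⟨t, ht⟩ := hy
    have hyO : y ∈ b ⁻¹ᵁ O := by
      show b y ∈ O
      rw [← ht]
      exact (Scheme.Opens.range_ι O).le (hjO ⟨t, rfl⟩)
    refine ⟨t, ?_⟩
    have h1 : u t ∈ b ⁻¹ᵁ O := by
      show b (u t) ∈ O
      rw [← Scheme.Hom.comp_apply, hu]
      exact (Scheme.Opens.range_ι O).le (hjO ⟨t, rfl⟩)
    refine congrArg Subtype.val ((b ∣_ O).homeomorph.injective (a₁ := ⟨u t, h1⟩) (a₂ := ⟨y, hyO⟩) (Subtype.ext ?_))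
    show ((b ∣_ O) ⟨u t, h1⟩).1 = ((b ∣_ O) ⟨y, hyO⟩).1
    rw [morphismRestrict_base_coe, morphismRestrict_base_coe]
    show b (u t) = b y
    rw [← Scheme.Hom.comp_apply, hu, ht]

/-- Lifts are determined by their composite with the blowing up. -/
theorem lift_eq {K : X.IdealSheafData} {b : X' ⟶ X} (hb : BlowUp.IsBlowUp b K) (j : T ⟶ X)
    (hj : ∀ t, j t ∉ (K.support : Set X)) {u u' : T ⟶ X'} (hu : u ≫ b = j) (hu' : u' ≫ b = j) : u = u' :=
  (hb.2 T j (BlowUpX.isEffCartier_comap_of_avoid K j hj)).unique hu hu'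

/-- A lift of a dense morphism avoiding the centre is dense. -/
theorem denseRange_lift {K : X.IdealSheafData} {b : X' ⟶ X} (hb : BlowUp.IsBlowUp b K) (j : T ⟶ X)
    (hj : ∀ t, j t ∉ (K.support : Set X)) (hd : DenseRange j) (u : T ⟶ X') (hu : u ≫ b = j) : DenseRange u := by
  haveI := BlowUpX.isIso_restrict hb
  set O : X.Opens := K.support.compl
  rw [DenseRange, dense_iff_inter_open]
  intro G hG hGne
  have hd' : Dense ((b ⁻¹ᵁ O : X'.Opens) : Set X') := (dense_compl hb.1).mono (fun z hz => by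
    show b z ∈ O
    rw [Scheme.IdealSheafData.support_comap] at hz
    exact hz)
  obtain ⟨y, hyG, hyO⟩ := dense_iff_inter_open.1 hd' G hG hGne
  have hopen : IsOpen ((fun z : ↥(b ⁻¹ᵁ O) => b z.1) '' (Subtype.val ⁻¹' G)) := by
    have : (fun z : ↥(b ⁻¹ᵁ O) => b z.1) '' (Subtype.val ⁻¹' G) =
        O.ι '' ((b ∣_ O) '' ((b ⁻¹ᵁ O).ι ⁻¹' G)) := by
      rw [Set.image_image]
      refine Set.image_congr fun z _ => ?_
      rw [← Scheme.Hom.comp_apply, morphismRestrict_ι, Scheme.Hom.comp_apply]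
      rfl
    rw [this]
    exact O.ι.isOpenEmbedding.isOpenMap _ ((b ∣_ O).homeomorph.isOpenMap _ (hG.preimage (b ⁻¹ᵁ O).ι.continuous))
  obtain ⟨_, ⟨⟨z, hzO⟩, hzG, rfl⟩, t, ht⟩ := dense_iff_inter_open.1 hd _ hopen ⟨_, ⟨y, hyO⟩, hyG, rfl⟩
  refine ⟨z, hzG, t, ?_⟩
  have h1 : u t ∈ b ⁻¹ᵁ O := by
    show b (u t) ∈ O
    rw [← Scheme.Hom.comp_apply, hu, ht]
    exact hzO
  refine congrArg Subtype.val ((b ∣_ O).homeomorph.injective (a₁ := ⟨u t, h1⟩) (a₂ := ⟨z, hzO⟩) (Subtype.ext ?_))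
  show ((b ∣_ O) ⟨u t, h1⟩).1 = ((b ∣_ O) ⟨z, hzO⟩).1
  rw [morphismRestrict_base_coe, morphismRestrict_base_coe]
  show b (u t) = b z
  rw [← Scheme.Hom.comp_apply, hu, ht]

end Groth.Agent.StrictST17
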