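import Groth.Agent.StrictST17.Core

/-!
# Admissible blow ups dominate modifications
-/

set_option autoImplicit false
set_option linter.style.haveILetI false
set_option backward.isDefEq.respectTransparency false
set_option backward.isDefEq.respectTransparency.types false

universe u

open CategoryTheory Limits AlgebraicGeometry TopologicalSpace

namespace Groth.Agent.StrictST17

variable {S : Scheme.{u}}

/-- A universally closed open immersion with dense range is an isomorphism. -/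
theorem isIso_of_dense {Z : Scheme.{u}} (g : Z ⟶ S) [IsOpenImmersion g] [UniversallyClosed g]
    (V : S.Opens) (hV : Dense (V : Set S)) [IsIso (g ∣_ V)] : IsIso g := by
  haveI : Surjective g := ⟨fun s => by
    have hc : IsClosed (Set.range g) := g.isClosedMap.isClosed_range
    refine hc.closure_subset_iff.mpr (fun v hv => ?_) (hV s)
    obtain ⟨z, hz⟩ := (g ∣_ V).surjective ⟨v, hv⟩
    exact ⟨z.1, by have := congrArg Subtype.val hz; rwa [morphismRestrict_base_coe] at this⟩⟩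
  exact (isIso_iff_isOpenImmersion_and_epi_base g).mpr
    ⟨inferInstance, (TopCat.epi_iff_surjective _).mpr g.surjective⟩

/-- An admissible blow up with centre supported off exactly `U` dominates a modification. -/
theorem exists_section (H : FlatteningProp.{u}) [CompactSpace S] [QuasiSeparatedSpace S] {X : Scheme.{u}}
    (φ : X ⟶ S) [IsProper φ] (U : S.Opens) (hU : IsCompact (U : Set S)) [IsIso (φ ∣_ U)] :
    ∃ (𝓘 : S.IdealSheafData) (S' : Scheme.{u}) (b : S' ⟶ S), BlowUp.IsBlowUp b 𝓘 ∧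
      BlowUp.IsAdmissibleFor U 𝓘 ∧ (𝓘.support : Set S) = (U : Set S)ᶜ ∧ ∃ h : S' ⟶ X, h ≫ φ = b := by
  obtain ⟨I, S', b, hb, hI, hs, hopen⟩ := exists_openImmersion H φ U hU
  obtain ⟨𝒥, h𝒥⟩ := exists_isST (E := (I.comap φ).comap (pullback.fst φ b))
    (MorLib.IdealFG.isFG_comap (MorLib.IdealFG.isFG_comap hI.1 φ) _)
  obtain ⟨hop, hiso⟩ := hopen _ _ _ (IsPullback.of_hasPullback φ b) 𝒥 h𝒥
  have hd : Dense ((b ⁻¹ᵁ U : S'.Opens) : Set S') := (dense_compl hb.1).mono (support_comap_eq b hs).le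
  haveI : IsIso (𝒥.subschemeι ≫ pullback.snd φ b) := isIso_of_dense _ _ hd
  refine ⟨I, S', b, hb, hI, hs, inv (𝒥.subschemeι ≫ pullback.snd φ b) ≫ 𝒥.subschemeι ≫ pullback.fst φ b, ?_⟩
  rw [Category.assoc, Category.assoc, pullback.condition, ← Category.assoc 𝒥.subschemeι, IsIso.inv_hom_id_assoc]

/-- Over an open where a morphism is an isomorphism, its sections are unique. -/
theorem section_eq {T X : Scheme.{u}} (φ : X ⟶ S) (U : S.Opens) [IsIso (φ ∣_ U)] (k : T ⟶ S)
    (hk : ∀ t, k t ∈ U) (h h' : T ⟶ X) (e : h ≫ φ = k) (e' : h' ≫ φ = k) : h = h' := by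
  have hin : ∀ l : T ⟶ X, l ≫ φ = k → Set.range l ⊆ Set.range (φ ⁻¹ᵁ U).ι := by
    rintro l hl _ ⟨z, rfl⟩
    rw [Scheme.Opens.range_ι]
    show φ (l z) ∈ U
    rw [← Scheme.Hom.comp_apply, hl]
    exact hk z
  rw [← IsOpenImmersion.lift_fac _ _ (hin h e), ← IsOpenImmersion.lift_fac _ _ (hin h' e')]
  congr 1
  rw [← cancel_mono (φ ∣_ U), ← cancel_mono U.ι, Category.assoc, Category.assoc, morphismRestrict_ι,
    IsOpenImmersion.lift_fac_assoc, IsOpenImmersion.lift_fac_assoc, e, e']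

/-- The section of a modification over a scheme theoretic image. -/
theorem isIso_image_restrict {X : Scheme.{u}} (f : X ⟶ S) [IsSeparated f] (U : S.Opens)
    (s : (U : Scheme.{u}) ⟶ X) [QuasiCompact s] (hs : s ≫ f = U.ι) :
    IsIso ((s.ker.subschemeι ≫ f) ∣_ U) := by
  set O := f ⁻¹ᵁ U with hO
  have hin : Set.range s ⊆ Set.range O.ι := by
    rintro _ ⟨z, rfl⟩
    rw [Scheme.Opens.range_ι]
    show f (s z) ∈ U
    rw [← Scheme.Hom.comp_apply, hs]
    exact z.2
  let sO := IsOpenImmersion.lift O.ι s hin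
  have hsO : sO ≫ O.ι = s := IsOpenImmersion.lift_fac _ _ _
  have hid : sO ≫ (f ∣_ U) = 𝟙 _ := by
    rw [← cancel_mono U.ι, Category.assoc, morphismRestrict_ι, reassoc_of% hsO, hs, Category.id_comp]
  haveI : IsClosedImmersion sO := by
    haveI : IsSeparated (f ∣_ U) := IsZariskiLocalAtTarget.restrict ‹_› U
    haveI : IsClosedImmersion (sO ≫ (f ∣_ U)) := hid ▸ inferInstance
    exact IsClosedImmersion.of_comp sO (f ∣_ U)
  have hker : sO.ker = s.ker.comap O.ι := by
    have htop : s ⁻¹ᵁ O = ⊤ := top_unique fun z _ => (Scheme.Opens.range_ι O).le (hin ⟨z, rfl⟩)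
    haveI : IsIso (s ⁻¹ᵁ O).ι := by rw [htop]; exact (Scheme.topIso _).isIso_hom
    have hsq : IsPullback sO (𝟙 _) O.ι s := IsPullback.of_iso
      (isPullback_morphismRestrict s O).flip.flip
      (asIso (s ⁻¹ᵁ O).ι) (Iso.refl _) (Iso.refl _) (Iso.refl _)
      (by rw [Iso.refl_hom, Category.comp_id, ← cancel_mono O.ι, Category.assoc, hsO]
          exact morphismRestrict_ι s O)
      (by simp) (by simp) (by simp)
    have := MorLib.IdealFG.comap_map hsq (⊥ : (U : Scheme.{u}).IdealSheafData)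
    rwa [Scheme.IdealSheafData.comap_bot, Scheme.IdealSheafData.map_bot, Scheme.IdealSheafData.map_bot] at this
  have hin2 : Set.range s.toImage ⊆ Set.range (s.imageι ⁻¹ᵁ O).ι := by
    rintro _ ⟨z, rfl⟩
    rw [Scheme.Opens.range_ι]
    show s.imageι (s.toImage z) ∈ O
    rw [← Scheme.Hom.comp_apply, s.toImage_imageι]
    exact (Scheme.Opens.range_ι O).le (hin ⟨z, rfl⟩)
  let l := IsOpenImmersion.lift (s.imageι ⁻¹ᵁ O).ι s.toImage hin2
  have hl : l ≫ (s.imageι ∣_ O) = sO := by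
    rw [← cancel_mono O.ι, Category.assoc, morphismRestrict_ι, IsOpenImmersion.lift_fac_assoc,
      s.toImage_imageι, hsO]
  haveI : IsClosedImmersion (s.imageι ∣_ O) :=
    MorphismProperty.of_isPullback (isPullback_morphismRestrict s.imageι _).flip inferInstance
  have hkι : (s.imageι ∣_ O).ker = s.ker.comap O.ι := by
    rw [← (isPullback_morphismRestrict s.imageι O).isoPullback_hom_fst, Scheme.Hom.ker_comp_of_isIso,
      Scheme.IdealSheafData.ker_fst_of_isClosedImmersion]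
    exact congrArg (fun J => Scheme.IdealSheafData.comap J O.ι) s.ker.ker_subschemeι
  haveI : IsIso l := IsClosedImmersion.isIso_of_ker_eq sO (s.imageι ∣_ O) l hl (hker.trans hkι.symm)
  show IsIso ((s.imageι ≫ f) ∣_ U)
  rw [morphismRestrict_comp]
  haveI : IsIso (l ≫ (s.imageι ∣_ O) ≫ (f ∣_ U)) := by
    rw [reassoc_of% hl, hid]; infer_instance
  exact IsIso.of_isIso_comp_left l _

/-- After an admissible blow up the strict transform of a proper modification is an isomorphism. -/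
theorem exists_isIso (H : FlatteningProp.{u}) [CompactSpace S] [QuasiSeparatedSpace S] {X : Scheme.{u}}
    (φ : X ⟶ S) [IsProper φ] (U : S.Opens) (hU : IsCompact (U : Set S)) [IsIso (φ ∣_ U)] :
    ∃ (𝓘 : S.IdealSheafData) (S' : Scheme.{u}) (b : S' ⟶ S), BlowUp.IsBlowUp b 𝓘 ∧
      BlowUp.IsAdmissibleFor U 𝓘 ∧ (𝓘.support : Set S) = (U : Set S)ᶜ ∧
      ∀ (X' : Scheme.{u}) (p₁ : X' ⟶ X) (p₂ : X' ⟶ S'), IsPullback p₁ p₂ φ b →
      ∀ (𝒥 : X'.IdealSheafData), IsST ((𝓘.comap φ).comap p₁) 𝒥 → IsIso (𝒥.subschemeι ≫ p₂) := by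
  obtain ⟨I, S', b, hb, hI, hs, hopen⟩ := exists_openImmersion H φ U hU
  refine ⟨I, S', b, hb, hI, hs, fun X' p₁ p₂ hsq 𝒥 h𝒥 => ?_⟩
  obtain ⟨hop, hiso⟩ := hopen X' p₁ p₂ hsq 𝒥 h𝒥
  haveI : IsProper p₂ := MorphismProperty.of_isPullback hsq inferInstance
  exact isIso_of_dense _ _ ((dense_compl hb.1).mono (support_comap_eq b hs).le)

end Groth.Agent.StrictST17
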