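import Groth.Agent.StrictST17.StrictBlowUp
import Groth.Agent.StrictST17.Dominate
import Groth.Agent.BlowComp17.Comp
import Groth.Agent.GlueSep17.Basic
import Mathlib.AlgebraicGeometry.ZariskisMainTheorem

/-!
# A common target of admissible blow ups
-/

set_option autoImplicit false
set_option linter.style.haveILetI false
set_option backward.isDefEq.respectTransparency false
set_option backward.isDefEq.respectTransparency.types false

universe u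

open CategoryTheory Limits AlgebraicGeometry TopologicalSpace

namespace Groth.Agent.StrictST17

/-- An open piece, blown up further, embeds in an admissible blow up of the ambient scheme. -/
theorem exists_piece (H : FlatteningProp.{u}) {X Z : Scheme.{u}} [CompactSpace X] [QuasiSeparatedSpace X]
    (φ : Z ⟶ X) [IsSeparated φ] [LocallyOfFiniteType φ] [QuasiCompact φ] (R : X.Opens) (hR : IsCompact (R : Set X))
    [IsOpenImmersion (φ ∣_ R)] :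
    ∃ I : X.IdealSheafData, BlowUp.IsAdmissibleFor R I ∧
      ∀ (A : Z.IdealSheafData), BlowUp.IsAdmissibleFor (φ ⁻¹ᵁ R) A →
        ∀ (Z' : Scheme.{u}) (z : Z' ⟶ Z), BlowUp.IsBlowUp z (I.comap φ * A) →
        ∃ (K : X.IdealSheafData) (X' : Scheme.{u}) (b : X' ⟶ X) (w : Z' ⟶ X'),
          BlowUp.IsBlowUp b K ∧ BlowUp.IsAdmissibleFor R K ∧ IsOpenImmersion w ∧ w ≫ b = z ≫ φ := by
  obtain ⟨I, X₁, b₁, hb₁, hI, -, hopen⟩ := exists_openImmersion' H φ R hR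
  refine ⟨I, hI, fun A hA Z' z hz => ?_⟩
  haveI := BlowUpLib.isProper_of_isBlowUp I hb₁ hI.1
  haveI : CompactSpace X₁ := QuasiCompact.compactSpace_of_compactSpace b₁
  haveI : QuasiSeparatedSpace X₁ := quasiSeparatedSpace_of_quasiSeparated b₁
  obtain ⟨𝒥, h𝒥⟩ := exists_isST (E := (I.comap φ).comap (pullback.fst φ b₁))
    (MorLib.IdealFG.isFG_comap (MorLib.IdealFG.isFG_comap hI.1 φ) _)
  obtain ⟨hop, -⟩ := hopen _ _ _ (IsPullback.of_hasPullback φ b₁) 𝒥 h𝒥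
  let o := 𝒥.subschemeι ≫ pullback.snd φ b₁
  let c := 𝒥.subschemeι ≫ pullback.fst φ b₁
  have hoc : o ≫ b₁ = c ≫ φ := by simp only [o, c, Category.assoc, pullback.condition]
  have hc : BlowUp.IsBlowUp c (I.comap φ) := isBlowUp_strictTransform φ hb₁ (IsPullback.of_hasPullback φ b₁) h𝒥 (by
    rw [← Scheme.IdealSheafData.comap_comp _ 𝒥.subschemeι, ← Scheme.IdealSheafData.comap_comp]
    show BlowUp.IsEffCartierIdeal (I.comap (c ≫ φ))
    rw [← hoc, Scheme.IdealSheafData.comap_comp]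
    exact BlowUpLib.isEffCartier_comap_flat o hb₁.1)
  haveI : IsProper (pullback.fst φ b₁) := inferInstance
  haveI : CompactSpace Z := QuasiCompact.compactSpace_of_compactSpace φ
  haveI : CompactSpace 𝒥.subscheme := QuasiCompact.compactSpace_of_compactSpace c
  let W := o.opensRange
  have hW : IsCompact (W : Set X₁) := isCompact_range o.continuous
  have hV₁ : IsCompact ((b₁ ⁻¹ᵁ R : X₁.Opens) : Set X₁) := QuasiCompact.isCompact_preimage (f := b₁) _ R.isOpen hR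
  let A₁ := (A.comap c).comap o.isoOpensRange.inv
  have hA₁ : BlowUp.IsAdmissibleFor (W.ι ⁻¹ᵁ (b₁ ⁻¹ᵁ R)) A₁ := by
    refine ⟨MorLib.IdealFG.isFG_comap (MorLib.IdealFG.isFG_comap hA.1 c) _, Set.disjoint_left.2 fun y hy hyR => ?_⟩
    simp only [A₁, Scheme.IdealSheafData.support_comap, Closeds.coe_preimage, Set.mem_preimage] at hy
    refine Set.disjoint_left.1 hA.2 hy ?_
    show φ (c (o.isoOpensRange.inv y)) ∈ R
    rw [← Scheme.Hom.comp_apply, ← hoc, ← Scheme.Hom.comp_apply, ← Category.assoc, o.isoOpensRange_inv_comp]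
    exact hyR
  obtain ⟨J, hJ, hJW, -⟩ := S8857.result X₁ (b₁ ⁻¹ᵁ R) W hV₁ hW A₁ hA₁
  obtain ⟨X', b₂, hb₂⟩ := BlowUpLib.exists_blowUp J
  obtain ⟨K, hKft, hKs, hKb⟩ := BlowComp17.isBlowUp_comp hI.1 hb₁ hJ.1 hb₂
  have hJo : J.comap o = A.comap c := by
    calc J.comap o = J.comap (o.isoOpensRange.hom ≫ W.ι) := by rw [o.isoOpensRange_hom_ι]
      _ = A₁.comap o.isoOpensRange.hom := by rw [Scheme.IdealSheafData.comap_comp, hJW]
      _ = A.comap c := by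
        simp only [A₁, ← Scheme.IdealSheafData.comap_comp]
        rw [Iso.hom_inv_id_assoc]
  have hsq := IsPullback.of_hasPullback o b₂
  have h2 : BlowUp.IsBlowUp (pullback.fst o b₂) (A.comap c) := hJo ▸ BlowUpLib.isBlowUp_of_isPullback hsq hb₂
  obtain ⟨e, he⟩ := BlowUpLib.exists_iso hz (S1683.result (I.comap φ) A c hc _ h2)
  refine ⟨K, X', b₂ ≫ b₁, e.hom ≫ pullback.snd o b₂, hKb, ⟨hKft, ?_⟩, inferInstance, ?_⟩
  · rw [hKs]
    refine Disjoint.union_left hI.2 (Set.disjoint_left.2 ?_)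
    rintro _ ⟨y, hy, rfl⟩ hyR
    exact Set.disjoint_left.1 hJ.2 hy hyR
  · rw [Category.assoc, ← pullback.condition_assoc, hoc, ← he, Category.assoc, Category.assoc]
    simp only [c, Category.assoc]

/-- Lifts to blow ups avoiding the centre are unique. -/
theorem exists_lift_avoid {X X' T : Scheme.{u}} {K : X.IdealSheafData} {b : X' ⟶ X} (hb : BlowUp.IsBlowUp b K)
    (j : T ⟶ X) (hj : ∀ t, j t ∉ (K.support : Set X)) : ∃! u : T ⟶ X', u ≫ b = j :=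
  hb.2 T j (BlowUpX.isEffCartier_comap_of_avoid K j hj)

theorem common_target (H : FlatteningProp.{u}) {U X₁ X₂ S : Scheme.{u}} [CompactSpace S] [QuasiSeparatedSpace S]
    (gU : U ⟶ S) (g₁ : X₁ ⟶ S) (g₂ : X₂ ⟶ S)
    [IsSeparated gU] [LocallyOfFiniteType gU] [QuasiCompact gU]
    [IsSeparated g₁] [LocallyOfFiniteType g₁] [QuasiCompact g₁]
    [IsSeparated g₂] [LocallyOfFiniteType g₂] [QuasiCompact g₂]
    (j₁ : U ⟶ X₁) (j₂ : U ⟶ X₂) [IsOpenImmersion j₁] [IsOpenImmersion j₂] (hj₁ : j₁ ≫ g₁ = gU) (hj₂ : j₂ ≫ g₂ = gU) :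
    ∃ (X : Scheme.{u}) (q : X ⟶ S) (_ : IsSeparated q) (_ : LocallyOfFiniteType q) (_ : QuasiCompact q)
      (𝓘₁ : X₁.IdealSheafData) (𝓘₂ : X₂.IdealSheafData) (X₁' X₂' : Scheme.{u}) (b₁ : X₁' ⟶ X₁) (b₂ : X₂' ⟶ X₂)
      (o₁ : X₁' ⟶ X) (o₂ : X₂' ⟶ X) (u₁ : U ⟶ X₁') (u₂ : U ⟶ X₂'),
      BlowUp.IsBlowUp b₁ 𝓘₁ ∧ BlowUp.IsAdmissibleFor j₁.opensRange 𝓘₁ ∧
      BlowUp.IsBlowUp b₂ 𝓘₂ ∧ BlowUp.IsAdmissibleFor j₂.opensRange 𝓘₂ ∧
      IsOpenImmersion o₁ ∧ IsOpenImmersion o₂ ∧ o₁ ≫ q = b₁ ≫ g₁ ∧ o₂ ≫ q = b₂ ≫ g₂ ∧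
      u₁ ≫ b₁ = j₁ ∧ u₂ ≫ b₂ = j₂ ∧ u₁ ≫ o₁ = u₂ ≫ o₂ := by
  haveI : CompactSpace U := QuasiCompact.compactSpace_of_compactSpace gU
  haveI : CompactSpace X₁ := QuasiCompact.compactSpace_of_compactSpace g₁
  haveI : CompactSpace X₂ := QuasiCompact.compactSpace_of_compactSpace g₂
  haveI : QuasiSeparatedSpace X₁ := quasiSeparatedSpace_of_quasiSeparated g₁
  haveI : QuasiSeparatedSpace X₂ := quasiSeparatedSpace_of_quasiSeparated g₂
  set R₁ := j₁.opensRange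
  set R₂ := j₂.opensRange
  have hR₁ : IsCompact (R₁ : Set X₁) := isCompact_range j₁.continuous
  have hR₂ : IsCompact (R₂ : Set X₂) := isCompact_range j₂.continuous
  let s : U ⟶ pullback g₁ g₂ := pullback.lift j₁ j₂ (hj₁.trans hj₂.symm)
  haveI : QuasiSeparatedSpace (pullback g₁ g₂ : Scheme.{u}) :=
    quasiSeparatedSpace_of_quasiSeparated (pullback.fst g₁ g₂)
  haveI : QuasiCompact s := quasiCompact_of_compactSpace s
  let φ₁ := s.ker.subschemeι ≫ pullback.fst g₁ g₂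
  let φ₂ := s.ker.subschemeι ≫ pullback.snd g₁ g₂
  have hφ₁ : s.toImage ≫ φ₁ = j₁ := by
    show s.toImage ≫ s.imageι ≫ pullback.fst g₁ g₂ = j₁
    rw [s.toImage_imageι_assoc, pullback.lift_fst]
  have hφ₂ : s.toImage ≫ φ₂ = j₂ := by
    show s.toImage ≫ s.imageι ≫ pullback.snd g₁ g₂ = j₂
    rw [s.toImage_imageι_assoc, pullback.lift_snd]
  haveI hi₁ : IsIso (φ₁ ∣_ R₁) := by
    have := isIso_image_restrict (pullback.fst g₁ g₂) R₁ (j₁.isoOpensRange.inv ≫ s)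
      (by rw [Category.assoc, pullback.lift_fst, j₁.isoOpensRange_inv_comp])
    rwa [Scheme.Hom.ker_comp_of_isIso] at this
  haveI hi₂ : IsIso (φ₂ ∣_ R₂) := by
    have := isIso_image_restrict (pullback.snd g₁ g₂) R₂ (j₂.isoOpensRange.inv ≫ s)
      (by rw [Category.assoc, pullback.lift_snd, j₂.isoOpensRange_inv_comp])
    rwa [Scheme.Hom.ker_comp_of_isIso] at this
  -- the preimages of the two copies of `U`
  have surj : ∀ {X : Scheme.{u}} (φ : s.ker.subscheme ⟶ X) (j : U ⟶ X) [IsOpenImmersion j] [IsIso (φ ∣_ j.opensRange)],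
      s.toImage ≫ φ = j → ∀ y ∈ φ ⁻¹ᵁ j.opensRange, ∃ t, s.toImage t = y := by
    intro X φ j _ _ hj y hy
    obtain ⟨t, ht⟩ := hy
    have hm : s.toImage t ∈ φ ⁻¹ᵁ j.opensRange :=
      ⟨t, by rw [← Scheme.Hom.comp_apply, hj]⟩
    refine ⟨t, congrArg Subtype.val ((φ ∣_ j.opensRange).homeomorph.injective
      (a₁ := ⟨s.toImage t, hm⟩) (a₂ := ⟨y, t, ht⟩) (Subtype.ext ?_))⟩
    show ((φ ∣_ j.opensRange) ⟨s.toImage t, hm⟩).1 = ((φ ∣_ j.opensRange) ⟨y, t, ht⟩).1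
    rw [morphismRestrict_base_coe, morphismRestrict_base_coe]
    show φ (s.toImage t) = φ y
    rw [← Scheme.Hom.comp_apply, hj, ht]
  have mem₁ : ∀ t, φ₁ (s.toImage t) ∈ R₁ := fun t => ⟨t, by rw [← Scheme.Hom.comp_apply, hφ₁]⟩
  have mem₂ : ∀ t, φ₂ (s.toImage t) ∈ R₂ := fun t => ⟨t, by rw [← Scheme.Hom.comp_apply, hφ₂]⟩
  obtain ⟨I₁, hI₁, hpiece₁⟩ := exists_piece H φ₁ R₁ hR₁
  obtain ⟨I₂, hI₂, hpiece₂⟩ := exists_piece H φ₂ R₂ hR₂
  have hA₂ : BlowUp.IsAdmissibleFor (φ₁ ⁻¹ᵁ R₁) (I₂.comap φ₂) := by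
    refine ⟨MorLib.IdealFG.isFG_comap hI₂.1 φ₂, Set.disjoint_left.2 fun y hy hyR => ?_⟩
    obtain ⟨t, rfl⟩ := surj φ₁ j₁ hφ₁ y hyR
    rw [Scheme.IdealSheafData.support_comap] at hy
    exact Set.disjoint_left.1 hI₂.2 hy (mem₂ t)
  have hA₁ : BlowUp.IsAdmissibleFor (φ₂ ⁻¹ᵁ R₂) (I₁.comap φ₁) := by
    refine ⟨MorLib.IdealFG.isFG_comap hI₁.1 φ₁, Set.disjoint_left.2 fun y hy hyR => ?_⟩
    obtain ⟨t, rfl⟩ := surj φ₂ j₂ hφ₂ y hyR
    rw [Scheme.IdealSheafData.support_comap] at hy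
    exact Set.disjoint_left.1 hI₁.2 hy (mem₁ t)
  set J := I₁.comap φ₁ * I₂.comap φ₂ with hJ
  obtain ⟨Z', z, hz⟩ := BlowUpLib.exists_blowUp J
  obtain ⟨K₁, X₁', b₁, w₁, hb₁, hK₁, hw₁, hwb₁⟩ := hpiece₁ _ hA₂ Z' z hz
  obtain ⟨K₂, X₂', b₂, w₂, hb₂, hK₂, hw₂, hwb₂⟩ := hpiece₂ _ hA₁ Z' z (mul_comm (I₁.comap φ₁) (I₂.comap φ₂) ▸ hz)
  haveI := BlowUpLib.isProper_of_isBlowUp K₁ hb₁ hK₁.1
  haveI := BlowUpLib.isProper_of_isBlowUp K₂ hb₂ hK₂.1
  haveI : IsProper z := BlowUpLib.isProper_of_isBlowUp J hz (isAdmissibleFor_mul (U := ⊥)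
    ⟨MorLib.IdealFG.isFG_comap hI₁.1 φ₁, by simp⟩ ⟨MorLib.IdealFG.isFG_comap hI₂.1 φ₂, by simp⟩).1
  have hg : w₁ ≫ b₁ ≫ g₁ = w₂ ≫ b₂ ≫ g₂ := by
    rw [reassoc_of% hwb₁, reassoc_of% hwb₂]
    simp only [φ₁, φ₂, Category.assoc, pullback.condition]
  -- the overlap has closed graph
  let G := pullback.lift w₁ w₂ hg
  have hG : G ≫ pullback.map (b₁ ≫ g₁) (b₂ ≫ g₂) g₁ g₂ b₁ b₂ (𝟙 S) (by simp) (by simp) = z ≫ s.ker.subschemeι := by
    apply pullback.hom_ext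
    · simp only [G, Category.assoc, pullback.lift_fst, pullback.lift_fst_assoc, hwb₁]; rfl
    · simp only [G, Category.assoc, pullback.lift_snd, pullback.lift_snd_assoc, hwb₂]; rfl
  haveI : IsSeparated (pullback.map (b₁ ≫ g₁) (b₂ ≫ g₂) g₁ g₂ b₁ b₂ (𝟙 S) (by simp) (by simp)) := by
    haveI : IsSeparated (pullback.map (b₁ ≫ g₁) (b₂ ≫ g₂) g₁ g₂ b₁ b₂ (𝟙 S) (by simp) (by simp) ≫ pullback.fst g₁ g₂) := by
      rw [pullback.lift_fst]; infer_instance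
    exact IsSeparated.of_comp _ (pullback.fst g₁ g₂)
  haveI : IsProper G := by
    haveI : IsProper (G ≫ pullback.map (b₁ ≫ g₁) (b₂ ≫ g₂) g₁ g₂ b₁ b₂ (𝟙 S) (by simp) (by simp)) := by
      rw [hG]; infer_instance
    exact IsProper.of_comp G (pullback.map (b₁ ≫ g₁) (b₂ ≫ g₂) g₁ g₂ b₁ b₂ (𝟙 S) _ _)
  haveI : Mono G := mono_of_mono_fac (pullback.lift_fst w₁ w₂ hg)
  haveI : IsClosedImmersion G := (IsClosedImmersion.iff_isProper_and_mono _).mpr ⟨inferInstance, inferInstance⟩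
  -- the lifts of `U`
  have av₁ : ∀ t, j₁ t ∉ (K₁.support : Set X₁) := fun t h => Set.disjoint_left.1 hK₁.2 h ⟨t, rfl⟩
  have av₂ : ∀ t, j₂ t ∉ (K₂.support : Set X₂) := fun t h => Set.disjoint_left.1 hK₂.2 h ⟨t, rfl⟩
  obtain ⟨u₁, hu₁, hu₁'⟩ := exists_lift_avoid hb₁ j₁ av₁
  obtain ⟨u₂, hu₂, hu₂'⟩ := exists_lift_avoid hb₂ j₂ av₂
  obtain ⟨u₀, hu₀, -⟩ := exists_lift_avoid hz s.toImage (fun t h => by
    rw [hJ, Scheme.IdealSheafData.support_mul] at h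
    rcases h with h | h <;> rw [SetLike.mem_coe, Scheme.IdealSheafData.support_comap] at h
    · exact Set.disjoint_left.1 hI₁.2 h (mem₁ t)
    · exact Set.disjoint_left.1 hI₂.2 h (mem₂ t))
  have e₁ : u₀ ≫ w₁ = u₁ := hu₁' _ (by simp only [Category.assoc]; rw [hwb₁, reassoc_of% hu₀, hφ₁])
  have e₂ : u₀ ≫ w₂ = u₂ := hu₂' _ (by simp only [Category.assoc]; rw [hwb₂, reassoc_of% hu₀, hφ₂])
  refine ⟨pushout w₁ w₂, pushout.desc (b₁ ≫ g₁) (b₂ ≫ g₂) hg,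
    GlueSep17.isSeparated_desc w₁ w₂ _ _ hg G.isClosedEmbedding.isClosed_range,
    GlueSep17.locallyOfFiniteType_desc w₁ w₂ _ _ hg, GlueSep17.quasiCompact_desc w₁ w₂ _ _ hg,
    K₁, K₂, X₁', X₂', b₁, b₂, pushout.inl w₁ w₂, pushout.inr w₁ w₂, u₁, u₂, hb₁, hK₁, hb₂, hK₂,
    inferInstance, inferInstance, pushout.inl_desc _ _ _, pushout.inr_desc _ _ _, hu₁, hu₂, ?_⟩
  rw [← e₁, ← e₂, Category.assoc, Category.assoc, pushout.condition]

end Groth.Agent.StrictST17
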