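import Groth.Agent.StrictST17.Dominate

/-!
# A compactification dominates after an admissible blow up
-/

set_option autoImplicit false
set_option linter.style.haveILetI false
set_option backward.isDefEq.respectTransparency false
set_option backward.isDefEq.respectTransparency.types false

universe u

open CategoryTheory Limits AlgebraicGeometry TopologicalSpace

namespace Groth.Agent.StrictST17

variable {S U Y : Scheme.{u}}

theorem compactification_dominates' (H : FlatteningProp.{u}) [CompactSpace S] [QuasiSeparatedSpace S]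
    (g : U ⟶ S) [IsSeparated g] [LocallyOfFiniteType g] [QuasiCompact g]
    (V : U.Opens) (hV : IsCompact (V : Set U)) (j : (V : Scheme.{u}) ⟶ Y) [IsOpenImmersion j] [QuasiCompact j]
    (πY : Y ⟶ S) [IsProper πY] (hj : j ≫ πY = V.ι ≫ g) :
    ∃ (𝓘 : Y.IdealSheafData) (Y' : Scheme.{u}) (b : Y' ⟶ Y), BlowUp.IsBlowUp b 𝓘 ∧ BlowUp.IsAdmissibleFor j.opensRange 𝓘 ∧
      ∃ (V' : Y'.Opens) (hle : b ⁻¹ᵁ j.opensRange ≤ V') (h : (V' : Scheme.{u}) ⟶ U),
        IsProper h ∧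
        ∃ k : ((b ⁻¹ᵁ j.opensRange : Y'.Opens) : Scheme.{u}) ⟶ V,
          k ≫ j = (b ∣_ j.opensRange) ≫ j.opensRange.ι ∧ Y'.homOfLE hle ≫ h = k ≫ V.ι ∧
            h ≫ g = V'.ι ≫ b ≫ πY := by
  haveI : CompactSpace Y := QuasiCompact.compactSpace_of_compactSpace πY
  haveI : QuasiSeparatedSpace Y := quasiSeparatedSpace_of_quasiSeparated πY
  haveI : CompactSpace V.toScheme := isCompact_iff_compactSpace.1 hV
  set R := j.opensRange with hR
  have hRc : IsCompact (R : Set Y) := isCompact_range j.continuous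
  let P := pullback πY g
  let π₁ : P ⟶ Y := pullback.fst πY g
  let π₂ : P ⟶ U := pullback.snd πY g
  haveI : QuasiSeparatedSpace P := quasiSeparatedSpace_of_quasiSeparated π₁
  haveI : CompactSpace R.toScheme := isCompact_iff_compactSpace.1 hRc
  let e : (R : Scheme.{u}) ⟶ V := j.isoOpensRange.inv
  have he : e ≫ j = R.ι := j.isoOpensRange_inv_comp
  let s : (R : Scheme.{u}) ⟶ P := pullback.lift R.ι (e ≫ V.ι) (by rw [Category.assoc, ← hj, reassoc_of% he])
  have hs : s ≫ π₁ = R.ι := pullback.lift_fst _ _ _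
  haveI : QuasiCompact s := quasiCompact_of_compactSpace s
  haveI := isIso_image_restrict π₁ R s hs
  obtain ⟨I, Y', b, hb, hI, hsupp, hopen⟩ := exists_openImmersion H (s.ker.subschemeι ≫ π₁) R hRc
  haveI : IsProper b := BlowUpLib.isProper_of_isBlowUp I hb hI.1
  let φ := s.ker.subschemeι ≫ π₁
  let X' := pullback φ b
  obtain ⟨𝒥, h𝒥⟩ := exists_isST (E := (I.comap φ).comap (pullback.fst φ b))
    (MorLib.IdealFG.isFG_comap (MorLib.IdealFG.isFG_comap hI.1 φ) _)
  obtain ⟨hop, hiso⟩ := hopen X' _ _ (IsPullback.of_hasPullback φ b) 𝒥 h𝒥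
  let o := 𝒥.subschemeι ≫ pullback.snd φ b
  let V' : Y'.Opens := o.opensRange
  have hle : b ⁻¹ᵁ R ≤ V' := by
    intro y hy
    obtain ⟨z, hz⟩ := (o ∣_ (b ⁻¹ᵁ R)).surjective ⟨y, hy⟩
    exact ⟨z.1, by have := congrArg Subtype.val hz; rwa [morphismRestrict_base_coe] at this⟩
  let h : (V' : Scheme.{u}) ⟶ U :=
    o.isoOpensRange.inv ≫ 𝒥.subschemeι ≫ pullback.fst φ b ≫ s.ker.subschemeι ≫ π₂
  haveI : IsProper π₂ := inferInstance
  haveI : IsProper (pullback.fst φ b) := inferInstance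
  haveI : IsProper h := inferInstance
  refine ⟨I, Y', b, hb, hI, V', hle, h, inferInstance, (b ∣_ R) ≫ e, by rw [Category.assoc, he], ?_, ?_⟩
  swap
  · have hp : π₂ ≫ g = π₁ ≫ πY := pullback.condition.symm
    rw [← o.isoOpensRange_inv_comp]
    simp only [h, o, φ, Category.assoc, hp]
    rw [← pullback.condition_assoc]
    simp only [Category.assoc]
  let c := Y'.homOfLE hle ≫ o.isoOpensRange.inv ≫ 𝒥.subschemeι ≫ pullback.fst φ b
  have hc : c ≫ φ = (b ∣_ R) ≫ R.ι := by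
    simp only [c, Category.assoc, pullback.condition, morphismRestrict_ι]
    have : o.isoOpensRange.inv ≫ 𝒥.subschemeι ≫ pullback.snd φ b ≫ b = V'.ι ≫ b := by
      rw [← Category.assoc 𝒥.subschemeι, ← Category.assoc o.isoOpensRange.inv, o.isoOpensRange_inv_comp]
    rw [this, Scheme.homOfLE_ι_assoc]
  have hk : ∀ z, ((b ∣_ R) ≫ R.ι) z ∈ R := fun z => ((b ∣_ R) z).2
  have key : c = (b ∣_ R) ≫ s.toImage := section_eq φ R _ hk c _ hc (by
    rw [Category.assoc]
    show (b ∣_ R) ≫ s.toImage ≫ s.imageι ≫ π₁ = _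
    rw [s.toImage_imageι_assoc, hs])
  calc Y'.homOfLE hle ≫ h = c ≫ s.ker.subschemeι ≫ π₂ := by simp [c, h]
    _ = (b ∣_ R) ≫ s.toImage ≫ s.imageι ≫ π₂ := by rw [key, Category.assoc]
    _ = ((b ∣_ R) ≫ e) ≫ V.ι := by rw [s.toImage_imageι_assoc, pullback.lift_snd, Category.assoc]

theorem compactification_dominates (H : FlatteningProp.{u}) [CompactSpace S] [QuasiSeparatedSpace S]
    (g : U ⟶ S) [IsSeparated g] [LocallyOfFiniteType g] [QuasiCompact g]
    (V : U.Opens) (hV : IsCompact (V : Set U)) (j : (V : Scheme.{u}) ⟶ Y) [IsOpenImmersion j] [QuasiCompact j]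
    (πY : Y ⟶ S) [IsProper πY] (hj : j ≫ πY = V.ι ≫ g) :
    ∃ (𝓘 : Y.IdealSheafData) (Y' : Scheme.{u}) (b : Y' ⟶ Y), BlowUp.IsBlowUp b 𝓘 ∧ BlowUp.IsAdmissibleFor j.opensRange 𝓘 ∧
      ∃ (V' : Y'.Opens) (hle : b ⁻¹ᵁ j.opensRange ≤ V') (h : (V' : Scheme.{u}) ⟶ U),
        IsProper h ∧
        ∃ k : ((b ⁻¹ᵁ j.opensRange : Y'.Opens) : Scheme.{u}) ⟶ V,
          k ≫ j = (b ∣_ j.opensRange) ≫ j.opensRange.ι ∧ Y'.homOfLE hle ≫ h = k ≫ V.ι := by
  obtain ⟨I, Y', b, h1, h2, V', hle, h, h3, k, h4, h5, -⟩ := compactification_dominates' H g V hV j πY hj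
  exact ⟨I, Y', b, h1, h2, V', hle, h, h3, k, h4, h5⟩

end Groth.Agent.StrictST17
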