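import Groth.Agent.BlowUpLib.Local
import Groth.Agent.BlowUpX.Basic
import Groth.Agent.MorLib.IdealFG
import Mathlib.AlgebraicGeometry.Morphisms.FlatMono

/-!
# Flat morphisms which are isomorphisms off an effective Cartier divisor
-/

set_option autoImplicit false
set_option linter.style.haveILetI false
set_option backward.isDefEq.respectTransparency false
set_option backward.isDefEq.respectTransparency.types false

universe u

open CategoryTheory Limits AlgebraicGeometry TopologicalSpace

namespace Groth.Agent.StrictST17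

variable {X P Z S : Scheme.{u}}

/-- An ideal which vanishes off an effective Cartier divisor vanishes. -/
theorem eq_bot_of_cartier {D K : P.IdealSheafData} (hD : BlowUp.IsEffCartierIdeal D)
    (h : K.comap (Scheme.Opens.ι (X := P) D.support.compl) = ⊥) : K = ⊥ := by
  choose W hxW t ht hW using hD
  refine Scheme.IdealSheafData.ext_of_iSup_eq_top W (top_unique fun x _ => Opens.mem_iSup.mpr ⟨x, hxW x⟩)
    fun x => ?_
  rw [Scheme.IdealSheafData.ideal_bot, Pi.bot_apply, eq_bot_iff]
  intro a ha
  let B : P.affineOpens := P.affineBasicOpen (t x)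
  have hB : B.1 ≤ D.support.compl := fun z hz hzD => by
    have := (Scheme.IdealSheafData.mem_support_iff_of_mem (U := W x) (P.basicOpen_le _ hz)).mp hzD
    exact (Scheme.mem_zeroLocus_iff _ _ _).mp this (t x) (hW x ▸ Ideal.mem_span_singleton_self _) hz
  have h0 : K.ideal B = (⊥ : P.IdealSheafData).ideal B :=
    MorLib.IdealFG.eq_of_comap_eq (by rw [h, Scheme.IdealSheafData.comap_bot]) hB
  have hres : (P.presheaf.map (homOfLE (P.basicOpen_le (t x))).op).hom a = 0 := by
    have hm : (P.presheaf.map (homOfLE (P.basicOpen_le (t x))).op).hom a ∈ K.ideal B := by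
      rw [← K.map_ideal (U := B) (V := W x) (P.basicOpen_le (t x))]
      exact Ideal.mem_map_of_mem _ ha
    rw [h0, Scheme.IdealSheafData.ideal_bot, Pi.bot_apply] at hm
    exact hm
  haveI := (W x).2.isLocalization_basicOpen (t x)
  obtain ⟨⟨_, l, rfl⟩, hl⟩ :=
    (IsLocalization.map_eq_zero_iff (Submonoid.powers (t x)) Γ(P, P.basicOpen (t x)) _).mp
      (show algebraMap Γ(P, (W x).1) Γ(P, P.basicOpen (t x)) a = 0 from hres)
  exact (mem_nonZeroDivisors_iff_left.mp (pow_mem (ht x) l) _ hl)

/-- A flat, separated morphism locally of finite presentation which is a monomorphism off an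
effective Cartier divisor is an open immersion. -/
theorem isOpenImmersion_of_flat (g : Z ⟶ S) [Flat g] [LocallyOfFinitePresentation g] [IsSeparated g]
    {D : S.IdealSheafData} (hD : BlowUp.IsEffCartierIdeal D) (U : S.Opens)
    (hU : (D.support : Set S)ᶜ ⊆ U) [Mono (g ∣_ U)] : IsOpenImmersion g := by
  haveI : IsClosedImmersion (pullback.diagonal g) := IsSeparated.isClosedImmersion_diagonal
  let δ := pullback.diagonal g
  let f : pullback g g ⟶ S := pullback.fst g g ≫ g
  haveI : Flat f := inferInstance
  let O : (pullback g g).Opens := (D.comap f).support.compl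
  have hO : O ≤ f ⁻¹ᵁ U := fun z hz => hU fun hzD => hz (by
    rw [Scheme.IdealSheafData.support_comap]; exact hzD)
  have hin : ∀ (k : pullback g g ⟶ Z), k ≫ g = f → Set.range (O.ι ≫ k) ⊆ Set.range (g ⁻¹ᵁ U).ι := by
    rintro k hk _ ⟨z, rfl⟩
    rw [Scheme.Opens.range_ι]
    show g (k (O.ι z)) ∈ U
    rw [← Scheme.Hom.comp_apply, hk]
    exact hO z.2
  have e : O.ι ≫ pullback.fst g g = O.ι ≫ pullback.snd g g := by
    have h2 : pullback.snd g g ≫ g = f := pullback.condition.symm
    rw [← IsOpenImmersion.lift_fac _ _ (hin _ (rfl : pullback.fst g g ≫ g = f)),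
      ← IsOpenImmersion.lift_fac _ _ (hin _ h2)]
    congr 1
    rw [← cancel_mono (g ∣_ U), ← cancel_mono U.ι, Category.assoc, Category.assoc, morphismRestrict_ι,
      IsOpenImmersion.lift_fac_assoc, IsOpenImmersion.lift_fac_assoc, Category.assoc, Category.assoc, h2]
  have hfac : O.ι = (O.ι ≫ pullback.fst g g) ≫ δ := by
    apply pullback.hom_ext
    · simp [δ]
    · simp [δ, e]
  have hker : δ.ker.comap O.ι = ⊥ := by
    rw [hfac, Scheme.IdealSheafData.comap_comp]
    have : δ.ker.comap δ = ⊥ := by
      rw [eq_bot_iff, ← Scheme.IdealSheafData.map_bot δ]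
      exact Scheme.IdealSheafData.comap_map_le _ _
    rw [this, Scheme.IdealSheafData.comap_bot]
  have hbot := eq_bot_of_cartier (BlowUpLib.isEffCartier_comap_flat f hD) hker
  haveI : IsIso δ := IsClosedImmersion.isIso_of_ker_eq δ (𝟙 _) δ (Category.comp_id _)
    (by rw [hbot, Scheme.Hom.ker_eq_bot_of_isIso])
  haveI : Mono g := (pullback.isIso_diagonal_iff g).mp ‹IsIso δ›
  exact IsOpenImmersion.of_flat_of_mono g

end Groth.Agent.StrictST17
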