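import Groth.Agent.StrictST17.Basic
import Groth.Agent.StrictST17.OpenImm
import Groth.Agent.S8857
import Groth.Agent.ModPairLib.Closure

/-!
# A strict transform becomes an open immersion
-/

set_option autoImplicit false
set_option linter.style.haveILetI false
set_option backward.isDefEq.respectTransparency false
set_option backward.isDefEq.respectTransparency.types false

universe u

open CategoryTheory Limits AlgebraicGeometry TopologicalSpace

namespace Groth.Agent.StrictST17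

/-- Flattening of the strict transform by admissible blow ups. -/
def FlatteningProp : Prop :=
  ∀ {X S : Scheme.{u}} [CompactSpace S] [QuasiSeparatedSpace S] (f : X ⟶ S) [LocallyOfFiniteType f]
    [QuasiCompact f] [QuasiSeparated f] (U : S.Opens), IsCompact (U : Set S) → Flat (f ∣_ U) →
    LocallyOfFinitePresentation (f ∣_ U) →
    ∃ (𝓘 : S.IdealSheafData) (S' : Scheme.{u}) (b : S' ⟶ S), BlowUp.IsBlowUp b 𝓘 ∧ BlowUp.IsAdmissibleFor U 𝓘 ∧
      ∀ (X' : Scheme.{u}) (p₁ : X' ⟶ X) (p₂ : X' ⟶ S'), IsPullback p₁ p₂ f b →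
      ∀ (𝒥 : X'.IdealSheafData), IsST ((𝓘.comap f).comap p₁) 𝒥 →
        Flat (𝒥.subschemeι ≫ p₂) ∧ LocallyOfFinitePresentation (𝒥.subschemeι ≫ p₂)

variable {S : Scheme.{u}}

/-- A finite type ideal cutting out exactly the complement of a quasi-compact open. -/
theorem exists_support_eq_compl [CompactSpace S] [QuasiSeparatedSpace S] (U : S.Opens)
    (hU : IsCompact (U : Set S)) :
    ∃ I : S.IdealSheafData, BlowUp.IsAdmissibleFor U I ∧ (I.support : Set S) = (U : Set S)ᶜ := by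
  let C : Closeds S := ⟨(U : Set S)ᶜ, U.isOpen.isClosed_compl⟩
  have hs : ((Scheme.IdealSheafData.vanishingIdeal C).support : Set S) = (U : Set S)ᶜ :=
    Scheme.IdealSheafData.coe_support_vanishingIdeal C
  obtain ⟨I, hI, hle, hd⟩ := S8857.exists_fg_sub (Scheme.IdealSheafData.vanishingIdeal C) U hU
    (Set.disjoint_left.2 fun x hx => hs.le hx)
  refine ⟨I, ⟨hI, hd⟩, Set.Subset.antisymm (fun x hx hxU => Set.disjoint_left.1 hd hx hxU) ?_⟩
  rw [← hs]
  exact Scheme.IdealSheafData.support_antitone hle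

theorem isAdmissibleFor_mul {U : S.Opens} {I J : S.IdealSheafData} (hI : BlowUp.IsAdmissibleFor U I)
    (hJ : BlowUp.IsAdmissibleFor U J) : BlowUp.IsAdmissibleFor U (I * J) := by
  refine ⟨fun W => ?_, ?_⟩
  · rw [Scheme.IdealSheafData.ideal_mul, Pi.mul_apply]
    exact Submodule.FG.mul (hI.1 W) (hJ.1 W)
  · rw [Scheme.IdealSheafData.support_mul, Closeds.coe_sup]
    exact Disjoint.union_left hI.2 hJ.2

theorem mul_le_left (I J : S.IdealSheafData) : I * J ≤ I := fun W => by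
  rw [Scheme.IdealSheafData.ideal_mul, Pi.mul_apply]
  exact Ideal.mul_le_right (I := J.ideal W) (J := I.ideal W) |>.trans' (le_of_eq (mul_comm _ _))

theorem mul_le_right' (I J : S.IdealSheafData) : I * J ≤ J := fun W => by
  rw [Scheme.IdealSheafData.ideal_mul, Pi.mul_apply]
  exact Ideal.mul_le_left (I := J.ideal W) (J := I.ideal W) |>.trans' (le_of_eq (mul_comm _ _))

/-- The preimage of the open off the centre, for a support equal to the complement. -/
theorem support_comap_eq {S' : Scheme.{u}} (b : S' ⟶ S) {I : S.IdealSheafData} {U : S.Opens}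
    (h : (I.support : Set S) = (U : Set S)ᶜ) :
    ((I.comap b).support : Set S')ᶜ = ((b ⁻¹ᵁ U : S'.Opens) : Set S') := by
  rw [Scheme.IdealSheafData.support_comap, Closeds.coe_preimage, h, Set.preimage_compl, compl_compl]
  rfl

/-- The open off the exceptional divisor is dense. -/
theorem dense_compl {E : S.IdealSheafData} (hE : BlowUp.IsEffCartierIdeal E) :
    Dense ((E.support : Set S)ᶜ) := fun x => by
  obtain ⟨u, hu, hux⟩ := ModPairLib.exists_specializes_mem_interior hE x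
  exact closure_mono (Set.singleton_subset_iff.mpr hu) hux.mem_closure

set_option maxHeartbeats 1000000 in
/-- After an admissible blow up the strict transform of a morphism which is an open immersion over
`U` is an open immersion. -/
theorem exists_openImmersion' (H : FlatteningProp.{u}) [CompactSpace S] [QuasiSeparatedSpace S]
    {X : Scheme.{u}} (φ : X ⟶ S) [IsSeparated φ] [LocallyOfFiniteType φ] [QuasiCompact φ]
    (U : S.Opens) (hU : IsCompact (U : Set S)) [IsOpenImmersion (φ ∣_ U)] :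
    ∃ (𝓘 : S.IdealSheafData) (S' : Scheme.{u}) (b : S' ⟶ S), BlowUp.IsBlowUp b 𝓘 ∧
      BlowUp.IsAdmissibleFor U 𝓘 ∧ (𝓘.support : Set S) = (U : Set S)ᶜ ∧
      ∀ (X' : Scheme.{u}) (p₁ : X' ⟶ X) (p₂ : X' ⟶ S'), IsPullback p₁ p₂ φ b →
      ∀ (𝒥 : X'.IdealSheafData), IsST ((𝓘.comap φ).comap p₁) 𝒥 →
        IsOpenImmersion (𝒥.subschemeι ≫ p₂) ∧
          (IsIso (φ ∣_ U) → IsIso ((𝒥.subschemeι ≫ p₂) ∣_ (b ⁻¹ᵁ U))) := by
  obtain ⟨I₁, S₁, b₁, hb₁, hI₁, hflat⟩ := H φ U hU inferInstance inferInstance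
  obtain ⟨K₀, hK₀, hK₀s⟩ := exists_support_eq_compl U hU
  have hsupp : ((I₁ * K₀).support : Set S) = (U : Set S)ᶜ := by
    rw [Scheme.IdealSheafData.support_mul, Closeds.coe_sup, hK₀s]
    exact Set.union_eq_right.mpr fun x hx hxU => Set.disjoint_left.1 hI₁.2 hx hxU
  obtain ⟨S', b, hb⟩ := BlowUpLib.exists_blowUp (I₁ * K₀)
  have hC₁ : BlowUp.IsEffCartierIdeal (I₁.comap b) := by
    have := hb.1
    rw [ModPairLib.ideal_comap_mul] at this
    exact BlowUpX.isEffCartier_left_of_mul this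
  obtain ⟨r, hr, -⟩ := hb₁.2 S' b hC₁
  refine ⟨I₁ * K₀, S', b, hb, isAdmissibleFor_mul hI₁ hK₀, hsupp, fun X' p₁ p₂ hsq 𝒥 h𝒥 => ?_⟩
  let E₁ := (I₁.comap φ).comap (pullback.fst φ b₁)
  have hE₁ : BlowUp.IsFiniteTypeIdeal E₁ :=
    MorLib.IdealFG.isFG_comap (MorLib.IdealFG.isFG_comap hI₁.1 φ) _
  obtain ⟨𝒥₁, h𝒥₁⟩ := exists_isST hE₁
  obtain ⟨hfl, hfp⟩ := hflat _ _ _ (IsPullback.of_hasPullback φ b₁) 𝒥₁ h𝒥₁
  let q : X' ⟶ pullback φ b₁ := pullback.lift p₁ (p₂ ≫ r) (by rw [Category.assoc, hr, hsq.w])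
  have hq₁ : q ≫ pullback.fst φ b₁ = p₁ := pullback.lift_fst _ _ _
  have hqsq : IsPullback q p₂ (pullback.snd φ b₁) r := by
    refine IsPullback.of_right ?_ (pullback.lift_snd _ _ _) (IsPullback.of_hasPullback φ b₁)
    rw [hq₁, hr]
    exact hsq
  let K := 𝒥₁.comap q
  set E := ((I₁ * K₀).comap φ).comap p₁ with hE
  have hEeq : E = ((I₁ * K₀).comap b).comap p₂ := by
    rw [hE, ← Scheme.IdealSheafData.comap_comp, hsq.w, Scheme.IdealSheafData.comap_comp]
  have hEle : E ≤ E₁.comap q := by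
    rw [hE, ← Scheme.IdealSheafData.comap_comp, ← Scheme.IdealSheafData.comap_comp,
      ← Scheme.IdealSheafData.comap_comp, hq₁]
    exact Scheme.IdealSheafData.comap_mono _ (mul_le_left _ _)
  have hpb : IsPullback ((𝒥₁.comapIso q).hom ≫ pullback.snd q 𝒥₁.subschemeι)
      (K.subschemeι ≫ p₂) (𝒥₁.subschemeι ≫ pullback.snd φ b₁) r := by
    refine IsPullback.paste_vert ?_ hqsq
    exact (IsPullback.of_hasPullback q 𝒥₁.subschemeι).flip.of_iso (𝒥₁.comapIso q).symm (Iso.refl _)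
      (Iso.refl _) (Iso.refl _) (by rw [Iso.symm_hom, Iso.inv_hom_id_assoc, Iso.refl_hom, Category.comp_id])
      (by simp [K]) (by simp) (by simp)
  haveI : Flat (K.subschemeι ≫ p₂) := MorphismProperty.of_isPullback hpb hfl
  haveI : LocallyOfFinitePresentation (K.subschemeι ≫ p₂) := MorphismProperty.of_isPullback hpb hfp
  haveI : IsSeparated p₂ := MorphismProperty.of_isPullback hsq inferInstance
  have hKC : BlowUp.IsEffCartierIdeal (E.comap K.subschemeι) := by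
    rw [hEeq, ← Scheme.IdealSheafData.comap_comp]
    exact BlowUpLib.isEffCartier_comap_flat _ hb.1
  have hJK : 𝒥 = K := h𝒥.unique
    (fun W a ha => killed_comap (fun W a => ((h𝒥₁.mem_iff W a).mp)) q hEle W a ha) hKC
  subst hJK
  set V := b ⁻¹ᵁ U with hV
  -- over `U` nothing is killed
  have hp₂V : IsOpenImmersion (p₂ ∣_ V) ∧ (IsIso (φ ∣_ U) → IsIso (p₂ ∣_ V)) := by
    have hin : Set.range ((p₂ ⁻¹ᵁ V).ι ≫ p₁) ⊆ Set.range (φ ⁻¹ᵁ U).ι := by
      rintro _ ⟨z, rfl⟩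
      rw [Scheme.Opens.range_ι]
      show φ (p₁ z.1) ∈ U
      rw [← Scheme.Hom.comp_apply, hsq.w]
      exact z.2
    have h1 : IsPullback ((p₂ ⁻¹ᵁ V).ι ≫ p₁) (p₂ ∣_ V) φ (V.ι ≫ b) :=
      (isPullback_morphismRestrict p₂ V).flip.paste_horiz hsq
    rw [← morphismRestrict_ι, ← IsOpenImmersion.lift_fac _ _ hin] at h1
    have h2 : IsPullback (IsOpenImmersion.lift (φ ⁻¹ᵁ U).ι _ hin) (p₂ ∣_ V) (φ ∣_ U) (b ∣_ U) := by
      refine IsPullback.of_right h1 ?_ (isPullback_morphismRestrict φ U).flip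
      rw [← cancel_mono U.ι, Category.assoc, Category.assoc, morphismRestrict_ι, morphismRestrict_ι,
        IsOpenImmersion.lift_fac_assoc, Category.assoc, hsq.w, morphismRestrict_ι_assoc]
    exact ⟨MorphismProperty.of_isPullback (P := @IsOpenImmersion) h2 ‹_›,
      fun hi => MorphismProperty.of_isPullback (P := MorphismProperty.isomorphisms _) h2 hi⟩
  have hbot : K.comap (p₂ ⁻¹ᵁ V).ι = ⊥ := h𝒥.comap_ι_eq_bot _ (Set.disjoint_left.2 fun z hz hzV => by
    rw [hEeq, Scheme.IdealSheafData.support_comap] at hz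
    exact (support_comap_eq b hsupp).ge hzV hz)
  haveI hKV : IsIso (K.subschemeι ∣_ (p₂ ⁻¹ᵁ V)) := by
    haveI : IsClosedImmersion (K.subschemeι ∣_ (p₂ ⁻¹ᵁ V)) :=
      MorphismProperty.of_isPullback (isPullback_morphismRestrict K.subschemeι _).flip inferInstance
    refine IsClosedImmersion.isIso_of_ker_eq (K.subschemeι ∣_ (p₂ ⁻¹ᵁ V)) (𝟙 _) _ (Category.comp_id _) ?_
    rw [Scheme.Hom.ker_eq_bot_of_isIso (𝟙 _)]
    have h3 := (isPullback_morphismRestrict K.subschemeι (p₂ ⁻¹ᵁ V))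
    rw [← h3.isoPullback_hom_fst, Scheme.Hom.ker_comp_of_isIso,
      Scheme.IdealSheafData.ker_fst_of_isClosedImmersion, Scheme.IdealSheafData.ker_subschemeι, hbot]
  haveI := hp₂V.1
  haveI : Mono ((K.subschemeι ≫ p₂) ∣_ V) := by
    rw [morphismRestrict_comp]; exact mono_comp (K.subschemeι ∣_ (p₂ ⁻¹ᵁ V)) (p₂ ∣_ V)
  exact ⟨isOpenImmersion_of_flat _ hb.1 V (support_comap_eq b hsupp).le, fun hi => by
    rw [morphismRestrict_comp]; exact @IsIso.comp_isIso _ _ _ _ _ _ _ hKV (hp₂V.2 hi)⟩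

/-- After an admissible blow up the strict transform of a morphism which is an isomorphism over `U`
is an open immersion; the centre may be taken with support exactly the complement of `U`. -/
theorem exists_openImmersion (H : FlatteningProp.{u}) [CompactSpace S] [QuasiSeparatedSpace S]
    {X : Scheme.{u}} (φ : X ⟶ S) [IsSeparated φ] [LocallyOfFiniteType φ] [QuasiCompact φ]
    (U : S.Opens) (hU : IsCompact (U : Set S)) [IsIso (φ ∣_ U)] :
    ∃ (𝓘 : S.IdealSheafData) (S' : Scheme.{u}) (b : S' ⟶ S), BlowUp.IsBlowUp b 𝓘 ∧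
      BlowUp.IsAdmissibleFor U 𝓘 ∧ (𝓘.support : Set S) = (U : Set S)ᶜ ∧
      ∀ (X' : Scheme.{u}) (p₁ : X' ⟶ X) (p₂ : X' ⟶ S'), IsPullback p₁ p₂ φ b →
      ∀ (𝒥 : X'.IdealSheafData), IsST ((𝓘.comap φ).comap p₁) 𝒥 →
        IsOpenImmersion (𝒥.subschemeι ≫ p₂) ∧ IsIso ((𝒥.subschemeι ≫ p₂) ∣_ (b ⁻¹ᵁ U)) := by
  obtain ⟨I, S', b, h1, h2, h3, h4⟩ := exists_openImmersion' H φ U hU
  exact ⟨I, S', b, h1, h2, h3, fun X' p₁ p₂ hsq 𝒥 h𝒥 =>
    ⟨(h4 X' p₁ p₂ hsq 𝒥 h𝒥).1, (h4 X' p₁ p₂ hsq 𝒥 h𝒥).2 inferInstance⟩⟩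

end Groth.Agent.StrictST17
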