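import Groth.Agent.StrictST17.Dominate

/-!
# Sections extend after an admissible blow up
-/

set_option autoImplicit false
set_option linter.style.haveILetI false
set_option backward.isDefEq.respectTransparency false
set_option backward.isDefEq.respectTransparency.types false

universe u

open CategoryTheory Limits AlgebraicGeometry TopologicalSpace

namespace Groth.Agent.StrictST17

variable {S : Scheme.{u}}

theorem quasiCompact_ι [QuasiSeparatedSpace S] {W : S.Opens} (hW : IsCompact (W : Set S)) :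
    QuasiCompact W.ι := by
  haveI : CompactSpace W.toScheme := isCompact_iff_compactSpace.1 hW
  exact quasiCompact_of_compactSpace W.ι

theorem extend_section (H : FlatteningProp.{u}) [CompactSpace S] [QuasiSeparatedSpace S]
    {X : Scheme.{u}} (U W : S.Opens) (hUW : U ≤ W) (hU : IsCompact (U : Set S)) (hW : IsCompact (W : Set S))
    (f : X ⟶ (W : Scheme.{u})) [IsProper f] (s : (U : Scheme.{u}) ⟶ X) (hs : s ≫ f = S.homOfLE hUW) :
    ∃ (𝓘 : S.IdealSheafData) (S' : Scheme.{u}) (b : S' ⟶ S), BlowUp.IsBlowUp b 𝓘 ∧ BlowUp.IsAdmissibleFor U 𝓘 ∧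
      ∃ s' : ((b ⁻¹ᵁ W : S'.Opens) : Scheme.{u}) ⟶ X, s' ≫ f = b ∣_ W ∧
        S'.homOfLE (show b ⁻¹ᵁ U ≤ b ⁻¹ᵁ W from fun _ hx => hUW hx) ≫ s' = (b ∣_ U) ≫ s := by
  haveI : CompactSpace W.toScheme := isCompact_iff_compactSpace.1 hW
  haveI : CompactSpace U.toScheme := isCompact_iff_compactSpace.1 hU
  haveI : QuasiSeparatedSpace W.toScheme := quasiSeparatedSpace_of_quasiSeparated W.ι
  haveI : QuasiSeparatedSpace X := quasiSeparatedSpace_of_quasiSeparated f
  haveI : QuasiCompact W.ι := quasiCompact_ι hW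
  let U' : W.toScheme.Opens := W.ι ⁻¹ᵁ U
  have hU' : IsCompact (U' : Set W.toScheme) :=
    QuasiCompact.isCompact_preimage (f := W.ι) _ U.isOpen hU
  -- the open `U'` is `U`
  have hin : Set.range U'.ι ⊆ Set.range (S.homOfLE hUW) := by
    rintro _ ⟨z, rfl⟩
    exact ⟨⟨(U'.ι z).1, z.2⟩, W.ι.injective (by rw [← Scheme.Hom.comp_apply, Scheme.homOfLE_ι]; rfl)⟩
  let e := IsOpenImmersion.lift (S.homOfLE hUW) U'.ι hin
  have he : e ≫ S.homOfLE hUW = U'.ι := IsOpenImmersion.lift_fac _ _ _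
  let t : (U' : Scheme.{u}) ⟶ X := e ≫ s
  have ht : t ≫ f = U'.ι := by rw [Category.assoc, hs, he]
  haveI : CompactSpace U'.toScheme := isCompact_iff_compactSpace.1 hU'
  haveI : QuasiCompact t := quasiCompact_of_compactSpace t
  haveI := isIso_image_restrict f U' t ht
  haveI : IsProper (t.ker.subschemeι ≫ f) := inferInstance
  obtain ⟨I₁, W₁, b₁, hb₁, hI₁, -, h, hh⟩ := exists_section H (t.ker.subschemeι ≫ f) U' hU'
  obtain ⟨J, hJ, hJW, -⟩ := S8857.result S U W hU hW I₁ hI₁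
  obtain ⟨K₀, hK₀, hK₀s⟩ := exists_support_eq_compl U hU
  obtain ⟨S', b, hb⟩ := BlowUpLib.exists_blowUp (J * K₀)
  have hC : BlowUp.IsEffCartierIdeal (I₁.comap (b ∣_ W)) := by
    rw [← hJW, ← Scheme.IdealSheafData.comap_comp, morphismRestrict_ι, Scheme.IdealSheafData.comap_comp]
    have := hb.1
    rw [ModPairLib.ideal_comap_mul] at this
    exact BlowUpLib.isEffCartier_comap_flat _ (BlowUpX.isEffCartier_left_of_mul this)
  obtain ⟨r, hr, -⟩ := hb₁.2 _ (b ∣_ W) hC
  refine ⟨J * K₀, S', b, hb, isAdmissibleFor_mul hJ hK₀, r ≫ h ≫ t.ker.subschemeι, ?_, ?_⟩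
  · rw [Category.assoc, Category.assoc, hh, hr]
  · -- factor the right hand side through the scheme theoretic image
    let c := S'.homOfLE (show b ⁻¹ᵁ U ≤ b ⁻¹ᵁ W from fun _ hx => hUW hx)
    have hk : ∀ z, (c ≫ (b ∣_ W)) z ∈ U' := fun z => by
      show W.ι ((c ≫ (b ∣_ W)) z) ∈ U
      rw [← Scheme.Hom.comp_apply, Category.assoc, morphismRestrict_ι, Scheme.homOfLE_ι_assoc]
      exact z.2
    have hin2 : Set.range (c ≫ (b ∣_ W)) ⊆ Set.range U'.ι := by
      rintro _ ⟨z, rfl⟩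
      rw [Scheme.Opens.range_ι]
      exact hk z
    let v := IsOpenImmersion.lift U'.ι (c ≫ (b ∣_ W)) hin2
    have hv : v ≫ e = b ∣_ U := by
      rw [← cancel_mono (S.homOfLE hUW), Category.assoc, he, IsOpenImmersion.lift_fac,
        ← cancel_mono W.ι, Category.assoc, Category.assoc, Scheme.homOfLE_ι, morphismRestrict_ι,
        morphismRestrict_ι, Scheme.homOfLE_ι_assoc]
    have := section_eq (t.ker.subschemeι ≫ f) U' (c ≫ (b ∣_ W)) hk (c ≫ r ≫ h) (v ≫ t.toImage)
      (by rw [Category.assoc, Category.assoc, hh, hr])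
      (by rw [Category.assoc]
          show v ≫ t.toImage ≫ t.imageι ≫ f = _
          rw [t.toImage_imageι_assoc, ht, IsOpenImmersion.lift_fac])
    calc c ≫ r ≫ h ≫ t.ker.subschemeι = (c ≫ r ≫ h) ≫ t.ker.subschemeι := by simp
      _ = (v ≫ t.toImage) ≫ t.imageι := by rw [this]
      _ = (b ∣_ U) ≫ s := by rw [Category.assoc, t.toImage_imageι, ← hv, Category.assoc]

end Groth.Agent.StrictST17
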