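import Groth.Agent.StrictST17.Dominate
import Groth.Agent.BlowComp17.Comp
import Groth.Agent.S1279
import Mathlib.Topology.Constructible

/-!
# A proper morphism becomes an isomorphism near a closure
-/

set_option autoImplicit false
set_option linter.style.haveILetI false
set_option backward.isDefEq.respectTransparency false
set_option backward.isDefEq.respectTransparency.types false

universe u

open CategoryTheory Limits AlgebraicGeometry TopologicalSpace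

namespace Groth.Agent.StrictST17

variable {X Y P Q : Scheme.{u}}

/-- Strict transforms restrict to opens. -/
theorem IsST.comap_openImmersion {E 𝒥 : X.IdealSheafData} (h : IsST E 𝒥) (j : P ⟶ X) [IsOpenImmersion j] :
    IsST (E.comap j) (𝒥.comap j) := by
  intro W a
  set σ := (j.appIso W.1).inv.hom with hσ
  have hσb : Function.Bijective σ := ConcreteCategory.bijective_of_isIso (j.appIso W.1).inv
  rw [← killed_iff, Scheme.IdealSheafData.ideal_comap_of_isOpenImmersion, Ideal.mem_comap, h.mem_iff]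
  let W' : X.affineOpens := ⟨j ''ᵁ W.1, W.2.image_of_isOpenImmersion j⟩
  have hE : (E.comap j).ideal W = (E.ideal W').comap σ := by
    rw [Scheme.IdealSheafData.ideal_comap_of_isOpenImmersion]

  let τ := RingEquiv.ofBijective σ hσb
  have hmap : ∀ n : ℕ, ((E.comap j).ideal W) ^ n = ((E.ideal W') ^ n).comap σ := fun n => by
    rw [hE]
    show Ideal.comap τ (E.ideal W') ^ n = Ideal.comap τ (E.ideal W' ^ n)
    rw [← Ideal.map_symm, ← Ideal.map_symm, Ideal.map_pow]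
  show Killed E W' (σ a) ↔ Killed (E.comap j) W a
  refine exists_congr fun n => ⟨fun hn c hc => hσb.1 ?_, fun hn c hc => ?_⟩
  · rw [hmap n, Ideal.mem_comap] at hc
    rw [map_mul, hn _ hc, map_zero]
  · obtain ⟨c', rfl⟩ := hσb.2 c
    rw [← map_mul, hn c' (by rw [hmap n]; exact hc), map_zero]

/-- Between a compact set and an open there is a quasi-compact open. -/
theorem exists_qc_open_between {C : Set Y} (hC : IsCompact C) (O : Y.Opens) (h : C ⊆ O) :
    ∃ O' : Y.Opens, IsCompact (O' : Set Y) ∧ C ⊆ O' ∧ (O' : Set Y) ⊆ O := by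
  have key : ∀ x : C, ∃ A : Y.Opens, IsAffineOpen A ∧ x.1 ∈ A ∧ A ≤ O := fun x =>
    exists_isAffineOpen_mem_and_subset (U := O) (h x.2)
  choose A hA hxA hAO using key
  obtain ⟨s, hs⟩ := hC.elim_finite_subcover (fun x => (A x : Set Y)) (fun x => (A x).isOpen)
    (fun x hx => Set.mem_iUnion.mpr ⟨⟨x, hx⟩, hxA ⟨x, hx⟩⟩)
  refine ⟨⟨⋃ x ∈ s, (A x : Set Y), isOpen_biUnion fun x _ => (A x).isOpen⟩, ?_, hs, ?_⟩
  · exact s.finite_toSet.isCompact_biUnion fun x _ => (hA x).isCompact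
  · exact Set.iUnion₂_subset fun x _ => hAO x

set_option maxHeartbeats 1000000 in
theorem iso_near_closure (H : FlatteningProp.{u}) [CompactSpace Y] [QuasiSeparatedSpace Y]
    (f : X ⟶ Y) [IsProper f] (V : Y.Opens) (hV : IsCompact (V : Set Y)) (T : Set Y) (hTV : T ⊆ V)
    (hT : IsClosed (Subtype.val ⁻¹' T : Set V)) (W : Y.Opens) (hTW : T ⊆ W) (hWV : W ≤ V)
    (hW : IsIso (f ∣_ W)) :
    ∃ (𝓘 : Y.IdealSheafData) (Y' : Scheme.{u}) (b : Y' ⟶ Y), BlowUp.IsBlowUp b 𝓘 ∧ BlowUp.IsAdmissibleFor V 𝓘 ∧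
      ∀ (X' : Scheme.{u}) (p₁ : X' ⟶ X) (p₂ : X' ⟶ Y'), IsPullback p₁ p₂ f b →
      ∀ (𝒥 : X'.IdealSheafData), IsST ((𝓘.comap f).comap p₁) 𝒥 →
        ∃ W' : Y'.Opens, closure (b.base ⁻¹' T) ⊆ W' ∧ IsIso ((𝒥.subschemeι ≫ p₂) ∣_ W') := by
  haveI : CompactSpace V.toScheme := isCompact_iff_compactSpace.1 hV
  haveI : QuasiSeparatedSpace V.toScheme := quasiSeparatedSpace_of_quasiSeparated V.ι
  haveI : CompactSpace (V : Set Y) := isCompact_iff_compactSpace.1 hV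
  have hTc : IsCompact T := by
    rw [← Set.inter_eq_right.mpr hTV, ← Subtype.image_preimage_coe]
    exact hT.isCompact.image continuous_subtype_val
  -- shrink `W` to a quasi-compact open
  obtain ⟨W₀, hW₀, hTW₀, hW₀W⟩ := exists_qc_open_between hTc W hTW
  -- a quasi-compact open of `V` away from `T` containing `V \ W₀`
  have hVW : IsCompact ((V : Set Y) \ W₀) := hV.diff W₀.isOpen
  have hVTo : IsOpen ((V : Set Y) \ T) := by
    have : (V : Set Y) \ T = Subtype.val '' (Subtype.val ⁻¹' T : Set V)ᶜ := by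
      ext x; simp [and_comm]
    rw [this]
    exact V.isOpen.isOpenMap_subtype_val _ hT.isOpen_compl
  obtain ⟨O, hO, hVWO, hOT⟩ := exists_qc_open_between hVW ⟨_, hVTo⟩
    (fun x hx => ⟨hx.1, fun hxT => hx.2 (hTW₀ hxT)⟩)
  have hOV : (O : Set Y) ⊆ V := fun x hx => (hOT hx).1
  let T₁ : Set V := (Subtype.val ⁻¹' (O : Set Y))ᶜ
  let T₂ : Set V := (Subtype.val ⁻¹' (W₀ : Set Y))ᶜ
  haveI : QuasiSeparatedSpace (V : Set Y) := ‹QuasiSeparatedSpace V.toScheme›
  have hcons : ∀ O' : Y.Opens, IsCompact (O' : Set Y) → (O' : Set Y) ⊆ V →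
      Topology.IsConstructible ((Subtype.val : V → Y) ⁻¹' (O' : Set Y))ᶜ := fun O' hO' hO'V => by
    have ho : IsOpen ((Subtype.val : V → Y) ⁻¹' (O' : Set Y)) := O'.isOpen.preimage continuous_subtype_val
    have hc : IsCompact ((Subtype.val : V → Y) ⁻¹' (O' : Set Y)) := by
      refine V.isOpenEmbedding'.isInducing.isCompact_preimage' hO' fun y hy => ?_
      exact ⟨⟨y, hO'V hy⟩, rfl⟩
    haveI : QuasiSeparatedSpace V := ‹QuasiSeparatedSpace V.toScheme›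
    exact (IsRetrocompact.isConstructible ho
      (fun U' hU'c hU'o => QuasiSeparatedSpace.inter_isCompact _ _ ho hc hU'o hU'c)).compl
  have hd : Disjoint T₁ T₂ := Set.disjoint_left.2 fun x hx₁ hx₂ => hx₁ (hVWO ⟨x.2, hx₂⟩)
  obtain ⟨J₁, Y₁, b₁, hb₁, hJ₁, hdisj⟩ := S1279.result V hV T₁ T₂
    (O.isOpen.preimage continuous_subtype_val).isClosed_compl
    (W₀.isOpen.preimage continuous_subtype_val).isClosed_compl
    (hcons O hO hOV) (hcons W₀ hW₀ fun x hx => hWV (hW₀W hx)) hd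
  haveI : IsProper b₁ := BlowUpLib.isProper_of_isBlowUp J₁ hb₁ hJ₁.1
  haveI : CompactSpace Y₁ := QuasiCompact.compactSpace_of_compactSpace b₁
  haveI : QuasiSeparatedSpace Y₁ := quasiSeparatedSpace_of_quasiSeparated b₁
  obtain ⟨W₁, hW₁, hC₁, hC₂⟩ := exists_qc_open_between
    (isClosed_closure (s := b₁.base ⁻¹' (Subtype.val '' T₁))).isCompact
    ⟨(closure (b₁.base ⁻¹' (Subtype.val '' T₂)))ᶜ, isClosed_closure.isOpen_compl⟩
    (fun x hx => Set.disjoint_left.1 hdisj hx)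
  haveI : CompactSpace W₁.toScheme := isCompact_iff_compactSpace.1 hW₁
  haveI : QuasiSeparatedSpace W₁.toScheme := quasiSeparatedSpace_of_quasiSeparated W₁.ι
  haveI : QuasiCompact W₁.ι := quasiCompact_of_compactSpace W₁.ι
  let U₁ : W₁.toScheme.Opens := W₁.ι ⁻¹ᵁ (b₁ ⁻¹ᵁ V)
  have hV₁ : IsCompact ((b₁ ⁻¹ᵁ V : Y₁.Opens) : Set Y₁) := QuasiCompact.isCompact_preimage (f := b₁) _ V.isOpen hV
  have hU₁ : IsCompact (U₁ : Set W₁.toScheme) :=
    QuasiCompact.isCompact_preimage (f := W₁.ι) _ (b₁ ⁻¹ᵁ V).isOpen hV₁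
  let c := W₁.ι ≫ b₁
  have hcU : ∀ z ∈ U₁, c z ∈ W := by
    intro z hz
    by_contra hzW
    exact hC₂ z.2 (subset_closure ⟨⟨c z, hz⟩, fun h => hzW (hW₀W h), rfl⟩)
  let φ := pullback.snd f c
  haveI : IsIso (φ ∣_ U₁) := by
    have h1 : IsPullback ((φ ⁻¹ᵁ U₁).ι ≫ pullback.fst f c) (φ ∣_ U₁) f (U₁.ι ≫ c) :=
      (isPullback_morphismRestrict φ U₁).flip.paste_horiz (IsPullback.of_hasPullback f c)
    have hin : Set.range (U₁.ι ≫ c) ⊆ Set.range W.ι := by
      rintro _ ⟨z, rfl⟩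
      rw [Scheme.Opens.range_ι]
      exact hcU _ z.2
    have hin2 : Set.range ((φ ⁻¹ᵁ U₁).ι ≫ pullback.fst f c) ⊆ Set.range (f ⁻¹ᵁ W).ι := by
      rintro _ ⟨z, rfl⟩
      rw [Scheme.Opens.range_ι]
      show f _ ∈ W
      rw [← Scheme.Hom.comp_apply, h1.w, Scheme.Hom.comp_apply]
      exact hcU _ ((φ ∣_ U₁) z).2
    rw [← IsOpenImmersion.lift_fac _ _ hin, ← IsOpenImmersion.lift_fac _ _ hin2] at h1
    have h2 : IsPullback (IsOpenImmersion.lift (f ⁻¹ᵁ W).ι _ hin2) (φ ∣_ U₁) (f ∣_ W)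
        (IsOpenImmersion.lift W.ι _ hin) := by
      refine IsPullback.of_right h1 ?_ (isPullback_morphismRestrict f W).flip
      rw [← cancel_mono W.ι, Category.assoc, Category.assoc, morphismRestrict_ι, IsOpenImmersion.lift_fac,
        IsOpenImmersion.lift_fac_assoc, Category.assoc, pullback.condition, morphismRestrict_ι_assoc]
    exact MorphismProperty.of_isPullback (P := MorphismProperty.isomorphisms _) h2 hW
  obtain ⟨I₂, W₂, b₂, hb₂, hI₂, -, hiso₂⟩ := exists_isIso H φ U₁ hU₁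
  obtain ⟨J₂, hJ₂, hJ₂W, hJ₂b⟩ := S8857.result Y₁ (b₁ ⁻¹ᵁ V) W₁ hV₁ hW₁ I₂ hI₂
  obtain ⟨Y', b', hb'⟩ := BlowUpLib.exists_blowUp J₂
  obtain ⟨K, hKft, hKs, hKb, hKle⟩ := BlowComp17.isBlowUp_comp' hJ₁.1 hb₁ hJ₂.1 hb'
  refine ⟨K, Y', b' ≫ b₁, hKb, ⟨hKft, ?_⟩, fun X' p₁ p₂ hsq 𝒥 h𝒥 => ⟨b' ⁻¹ᵁ W₁, ?_, ?_⟩⟩
  · rw [hKs]
    refine Disjoint.union_left hJ₁.2 (Set.disjoint_left.2 ?_)
    rintro _ ⟨z, hz, rfl⟩ hzV
    exact Set.disjoint_left.1 hJ₂.2 hz hzV
  · refine subset_trans ?_ (Set.preimage_mono (f := fun z => b' z) hC₁)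
    refine closure_minimal (fun z hz => ?_) (isClosed_closure.preimage b'.continuous)
    exact subset_closure ⟨⟨_, hTV hz⟩, fun h => (hOT h).2 hz, rfl⟩
  -- compare with the strict transform over `W₁`
  set W' := b' ⁻¹ᵁ W₁ with hW'
  set O' := p₂ ⁻¹ᵁ W' with hO'
  obtain ⟨eW, heW⟩ := BlowUpLib.exists_iso (hJ₂b Y' b' hb') hb₂
  have hb₂' := hJ₂b Y' b' hb'
  let q : (O' : Scheme.{u}) ⟶ pullback f c :=
    pullback.lift (O'.ι ≫ p₁) ((p₂ ∣_ W') ≫ (b' ∣_ W₁))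
      (by rw [Category.assoc, hsq.w, Category.assoc, ← morphismRestrict_ι_assoc, ← morphismRestrict_ι_assoc])
  have hq₁ : q ≫ pullback.fst f c = O'.ι ≫ p₁ := pullback.lift_fst _ _ _
  have hq₂ : q ≫ φ = (p₂ ∣_ W') ≫ (b' ∣_ W₁) := pullback.lift_snd _ _ _
  have hqsq : IsPullback q (p₂ ∣_ W') φ (b' ∣_ W₁) := by
    refine IsPullback.of_right ?_ hq₂ (IsPullback.of_hasPullback f c)
    rw [hq₁, show (b' ∣_ W₁) ≫ c = W'.ι ≫ b' ≫ b₁ from morphismRestrict_ι_assoc b' W₁ b₁]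
    exact (isPullback_morphismRestrict p₂ W').flip.paste_horiz hsq
  -- transport the pullback square along the identification of blow ups
  have hqsq' : IsPullback q ((p₂ ∣_ W') ≫ eW.hom) φ b₂ := IsPullback.of_iso hqsq (Iso.refl _) (Iso.refl _)
    eW (Iso.refl _) (by simp) (by simp) (by simp) (by simp [heW])
  have hI₂ft : BlowUp.IsFiniteTypeIdeal ((I₂.comap φ).comap q) :=
    MorLib.IdealFG.isFG_comap (MorLib.IdealFG.isFG_comap hI₂.1 φ) q
  obtain ⟨𝒦, h𝒦⟩ := exists_isST hI₂ft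
  haveI := hiso₂ _ q ((p₂ ∣_ W') ≫ eW.hom) hqsq' 𝒦 h𝒦
  haveI hZ : IsIso (𝒦.subschemeι ≫ (p₂ ∣_ W')) := by
    haveI : IsIso ((𝒦.subschemeι ≫ (p₂ ∣_ W')) ≫ eW.hom) := by rw [Category.assoc]; infer_instance
    exact IsIso.of_isIso_comp_right _ eW.hom
  set E := (K.comap f).comap p₁
  have hEO : E.comap O'.ι = ((K.comap (b' ≫ b₁)).comap W'.ι).comap (p₂ ∣_ W') := by
    simp only [E, ← Scheme.IdealSheafData.comap_comp]
    rw [hsq.w, morphismRestrict_ι_assoc]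
  have hle : E.comap O'.ι ≤ (I₂.comap φ).comap q := by
    have e2 : (I₂.comap φ).comap q = (((J₂.comap b').comap W'.ι).comap (p₂ ∣_ W')) := by
      calc (I₂.comap φ).comap q = I₂.comap (q ≫ φ) := (Scheme.IdealSheafData.comap_comp I₂ q φ).symm
        _ = (I₂.comap (b' ∣_ W₁)).comap (p₂ ∣_ W') := by rw [hq₂, Scheme.IdealSheafData.comap_comp]
        _ = (J₂.comap ((b' ∣_ W₁) ≫ W₁.ι)).comap (p₂ ∣_ W') := by rw [← hJ₂W, ← Scheme.IdealSheafData.comap_comp J₂]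
        _ = (J₂.comap (W'.ι ≫ b')).comap (p₂ ∣_ W') := by rw [morphismRestrict_ι]
        _ = _ := by rw [Scheme.IdealSheafData.comap_comp J₂]
    rw [hEO, e2]
    exact Scheme.IdealSheafData.comap_mono _ (Scheme.IdealSheafData.comap_mono _ hKle)
  have hC : BlowUp.IsEffCartierIdeal ((E.comap O'.ι).comap 𝒦.subschemeι) := by
    rw [hEO, ← Scheme.IdealSheafData.comap_comp, ← Scheme.IdealSheafData.comap_comp]
    exact BlowUpLib.isEffCartier_comap_flat _ hKb.1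
  have hJK : 𝒥.comap O'.ι = 𝒦 := (h𝒥.comap_openImmersion O'.ι).unique
    (fun W a ha => killed_mono hle ((h𝒦.mem_iff W a).mp ha)) hC
  -- the restriction of the strict transform
  haveI : IsClosedImmersion (𝒥.subschemeι ∣_ O') :=
    MorphismProperty.of_isPullback (isPullback_morphismRestrict 𝒥.subschemeι _).flip inferInstance
  have hker : (𝒥.subschemeι ∣_ O').ker = 𝒦 := by
    rw [← (isPullback_morphismRestrict 𝒥.subschemeι O').isoPullback_hom_fst, Scheme.Hom.ker_comp_of_isIso,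
      Scheme.IdealSheafData.ker_fst_of_isClosedImmersion, Scheme.IdealSheafData.ker_subschemeι, hJK]
  subst hker
  rw [morphismRestrict_comp]
  have : (𝒥.subschemeι ∣_ O') ≫ (p₂ ∣_ W') = (𝒥.subschemeι ∣_ O').toImage ≫
      ((𝒥.subschemeι ∣_ O').ker.subschemeι ≫ (p₂ ∣_ W')) := by
    rw [← Category.assoc]
    exact congrArg (· ≫ (p₂ ∣_ W')) (𝒥.subschemeι ∣_ O').toImage_imageι.symm
  rw [this]
  exact @IsIso.comp_isIso _ _ _ _ _ _ _ inferInstance hZ

end Groth.Agent.StrictST17
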