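import Groth.Agent.StrictST17.Basic
import Groth.Agent.BlowUpLib.Glue

/-!
# The strict transform along a blowing up is a blowing up
-/

set_option autoImplicit false
set_option linter.style.haveILetI false
set_option backward.isDefEq.respectTransparency false
set_option backward.isDefEq.respectTransparency.types false

universe u

open CategoryTheory Limits AlgebraicGeometry TopologicalSpace

namespace Groth.Agent.StrictST17

variable {X S S' T : Scheme.{u}}

/-- Killed sections vanish on schemes where the exceptional ideal is effective Cartier. -/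
theorem IsST.comap_eq_bot {X' : Scheme.{u}} {E 𝒥 : X'.IdealSheafData} (h : IsST E 𝒥) (m : T ⟶ X')
    (hC : BlowUp.IsEffCartierIdeal (E.comap m)) : 𝒥.comap m = ⊥ := by
  choose W hxW t ht hW using hC
  refine Scheme.IdealSheafData.ext_of_iSup_eq_top W (top_unique fun x _ => Opens.mem_iSup.mpr ⟨x, hxW x⟩)
    fun x => ?_
  rw [Scheme.IdealSheafData.ideal_bot, Pi.bot_apply, eq_bot_iff]
  intro a ha
  obtain ⟨n, hn⟩ := killed_comap (fun W a => (h.mem_iff W a).mp) m le_rfl (W x) a ha
  exact mem_nonZeroDivisors_iff_left.mp (pow_mem (ht x) n) _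
    (hn _ (by rw [hW x, Ideal.span_singleton_pow]; exact Ideal.mem_span_singleton_self _))

/-- A morphism killing an ideal factors through its closed subscheme. -/
theorem exists_fac_of_comap_eq_bot {X' : Scheme.{u}} (J : X'.IdealSheafData) (m : T ⟶ X') (h : J.comap m = ⊥) :
    ∃ k : T ⟶ J.subscheme, k ≫ J.subschemeι = m := by
  haveI : IsIso (J.comap m).subschemeι :=
    IsClosedImmersion.isIso_of_ker_eq (J.comap m).subschemeι (𝟙 T) _ (Category.comp_id _)
      (by rw [Scheme.IdealSheafData.ker_subschemeι, h, Scheme.Hom.ker_eq_bot_of_isIso])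
  refine ⟨inv (J.comap m).subschemeι ≫ (J.comapIso m).hom ≫ pullback.snd m J.subschemeι, ?_⟩
  simp only [Category.assoc, ← pullback.condition]
  rw [Scheme.IdealSheafData.comapIso_hom_fst_assoc, IsIso.inv_hom_id_assoc]

/-- If the exceptional ideal is effective Cartier on the strict transform, the strict transform is
the blowing up of `X` in the pulled back centre. -/
theorem isBlowUp_strictTransform {X' : Scheme.{u}} (f : X ⟶ S) {I : S.IdealSheafData} {b : S' ⟶ S}
    (hb : BlowUp.IsBlowUp b I) {p₁ : X' ⟶ X} {p₂ : X' ⟶ S'} (hsq : IsPullback p₁ p₂ f b)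
    {𝒥 : X'.IdealSheafData} (h𝒥 : IsST ((I.comap f).comap p₁) 𝒥)
    (hC : BlowUp.IsEffCartierIdeal (((I.comap f).comap p₁).comap 𝒥.subschemeι)) :
    BlowUp.IsBlowUp (𝒥.subschemeι ≫ p₁) (I.comap f) := by
  refine ⟨by rwa [Scheme.IdealSheafData.comap_comp], fun T g hg => ?_⟩
  obtain ⟨r, hr, -⟩ := hb.2 T (g ≫ f) (by rwa [Scheme.IdealSheafData.comap_comp])
  let m := hsq.lift g r hr.symm
  have hm₁ : m ≫ p₁ = g := hsq.lift_fst _ _ _
  have hm₂ : m ≫ p₂ = r := hsq.lift_snd _ _ _
  obtain ⟨k, hk⟩ := exists_fac_of_comap_eq_bot 𝒥 m (h𝒥.comap_eq_bot m (by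
    rwa [← Scheme.IdealSheafData.comap_comp _ m p₁, hm₁]))
  refine ⟨k, by dsimp only; rw [reassoc_of% hk, hm₁], fun k' hk' => ?_⟩
  dsimp only at hk'
  rw [← cancel_mono 𝒥.subschemeι, hk]
  refine hsq.hom_ext (by rw [Category.assoc, hk', hm₁]) (BlowUpLib.isBlowUp_hom_ext hb ?_ ?_)
  · rw [hm₂, hr, Category.assoc, Category.assoc, ← hsq.w, reassoc_of% hk']
  · rw [hm₂, hr, Scheme.IdealSheafData.comap_comp]; exact hg

end Groth.Agent.StrictST17
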