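import Groth.Agent.StrictST17.UnionStep
import Groth.Agent.StrictST17.Compactify
import Groth.Agent.S17394

/-!
# Compactifications of two opens with dense intersection give one of the union
-/

set_option autoImplicit false
set_option linter.style.haveILetI false
set_option backward.isDefEq.respectTransparency false
set_option backward.isDefEq.respectTransparency.types false

universe u

open CategoryTheory Limits AlgebraicGeometry TopologicalSpace

namespace Groth.Agent.StrictST17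

variable {S U : Scheme.{u}}

/-- The data attached to one open. -/
structure PieceData (g : U ⟶ S) (Ui O : U.Opens) (hO : O ≤ Ui) : Type (u + 1) where
  P : Scheme.{u}
  p : P ⟶ S
  isProper_p : IsProper p
  V : Scheme.{u}
  o : V ⟶ P
  isOpen_o : IsOpenImmersion o
  h : V ⟶ U
  isProper_h : IsProper h
  hh : h ≫ g = o ≫ p
  v : (Ui : Scheme.{u}) ⟶ V
  isOpen_v : IsOpenImmersion v
  hv : v ≫ h = Ui.ι
  dense_v : DenseRange (U.homOfLE hO ≫ v)
  dense_o : DenseRange ((U.homOfLE hO ≫ v) ≫ o)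

theorem exists_pieceData (H : FlatteningProp.{u}) [IsNoetherian S] (g : U ⟶ S) [IsSeparated g]
    [LocallyOfFiniteType g] [QuasiCompact g] (Ui O : U.Opens) (hO : O ≤ Ui) (hd : Dense (O : Set U))
    (hc : ∃ (Y : Scheme.{u}) (j : (Ui : Scheme.{u}) ⟶ Y) (p : Y ⟶ S),
      IsOpenImmersion j ∧ QuasiCompact j ∧ IsProper p ∧ j ≫ p = Ui.ι ≫ g) :
    Nonempty (PieceData g Ui O hO) := by
  obtain ⟨Y₀, j₀, p₀, hj₀, hj₀q, hp₀, hjp⟩ := hc
  haveI : IsLocallyNoetherian U := LocallyOfFiniteType.isLocallyNoetherian g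
  haveI : CompactSpace U := QuasiCompact.compactSpace_of_compactSpace g
  haveI : IsNoetherian U := ⟨⟩
  let πY := j₀.imageι ≫ p₀
  haveI : IsProper πY := inferInstance
  let j := j₀.toImage
  haveI : IsOpenImmersion j := inferInstance
  haveI : QuasiCompact j := by
    haveI : QuasiCompact (j ≫ j₀.imageι) := by rw [j₀.toImage_imageι]; infer_instance
    exact QuasiCompact.of_comp j j₀.imageι
  have hj : j ≫ πY = Ui.ι ≫ g := by simp only [j, πY]; rw [j₀.toImage_imageι_assoc, hjp]
  obtain ⟨I, Y', b, hb, hI, V', hle, h, hh, k, hk, hhk, hhg⟩ :=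
    compactification_dominates' H g Ui (NoetherianSpace.isCompact _) j πY hj
  haveI := BlowUpLib.isProper_of_isBlowUp I hb hI.1
  obtain ⟨u, huo, hu, hur⟩ := exists_lift_open hb j hI.2
  let c : (Ui : Scheme.{u}) ⟶ (b ⁻¹ᵁ j.opensRange : Y'.Opens) :=
    IsOpenImmersion.lift (b ⁻¹ᵁ j.opensRange).ι u (by rw [Scheme.Opens.range_ι, hur])
  let v := c ≫ Y'.homOfLE hle
  have hvι : v ≫ V'.ι = u := by rw [Category.assoc, Scheme.homOfLE_ι, IsOpenImmersion.lift_fac]
  have hck : c ≫ k = 𝟙 _ := by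
    rw [← cancel_mono j, Category.assoc, hk, morphismRestrict_ι, IsOpenImmersion.lift_fac_assoc, hu, Category.id_comp]
  have hv : v ≫ h = Ui.ι := by rw [Category.assoc, hhk, reassoc_of% hck]
  haveI : IsOpenImmersion v := by
    haveI : IsOpenImmersion (v ≫ V'.ι) := by rw [hvι]; exact huo
    exact IsOpenImmersion.of_comp v V'.ι
  have hdUi : DenseRange (U.homOfLE hO) := by
    rw [DenseRange, dense_iff_inter_open]
    intro G hG hne
    obtain ⟨_, ⟨x, hxG, rfl⟩, hxO⟩ := dense_iff_inter_open.1 hd _ (Ui.ι.isOpenEmbedding.isOpenMap _ hG) (hne.image _)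
    refine ⟨x, hxG, ⟨Ui.ι x, hxO⟩, Ui.ι.injective ?_⟩
    rw [← Scheme.Hom.comp_apply, Scheme.homOfLE_ι]
    rfl
  have hjd : DenseRange j := IsDominant.denseRange
  have hdu : DenseRange (U.homOfLE hO ≫ u) := by
    refine denseRange_lift hb (U.homOfLE hO ≫ j) (fun t ht => ?_) ?_ _ (by rw [Category.assoc, hu])
    · rw [Scheme.Hom.comp_apply] at ht
      exact Set.disjoint_left.1 hI.2 ht ⟨_, rfl⟩
    · rw [Scheme.Hom.comp_base, TopCat.coe_comp]
      exact hjd.comp hdUi j.continuous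
  have hdv : DenseRange (U.homOfLE hO ≫ v) := by
    rw [DenseRange, dense_iff_inter_open]
    intro G hG hne
    obtain ⟨_, ⟨x, hxG, rfl⟩, t, ht⟩ := dense_iff_inter_open.1 hdu _ (V'.ι.isOpenEmbedding.isOpenMap _ hG) (hne.image _)
    refine ⟨x, hxG, t, V'.ι.injective ?_⟩
    rw [← ht, ← Scheme.Hom.comp_apply, Category.assoc, hvι]
  exact ⟨⟨Y', b ≫ πY, inferInstance, V', V'.ι, inferInstance, h, hh, hhg, v, inferInstance, hv, hdv,
    by rw [Category.assoc, hvι]; exact hdu⟩⟩

/-- A finite type ideal with a prescribed closed support. -/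
theorem exists_fg_support {V : Scheme.{u}} [IsNoetherian V] (C : Set V) (hC : IsClosed C) :
    ∃ J : V.IdealSheafData, BlowUp.IsFiniteTypeIdeal J ∧ (J.support : Set V) = C := by
  obtain ⟨J, hJ, hs⟩ := exists_support_eq_compl (⟨Cᶜ, hC.isOpen_compl⟩ : V.Opens) (NoetherianSpace.isCompact _)
  exact ⟨J, hJ.1, by rw [hs]; exact compl_compl C⟩

/-- Maps agreeing on a set agree at points of its closure. -/
theorem apply_eq_of_closure {W T : Scheme.{u}} (g : U ⟶ S) [IsSeparated g] (a c : W ⟶ U)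
    (hac : a ≫ g = c ≫ g) (G : T ⟶ W) (hG : G ≫ a = G ≫ c) (z : W) (hz : z ∈ closure (Set.range G)) : a z = c z := by
  let d : W ⟶ pullback g g := pullback.lift a c hac
  have h1 : Set.range G ⊆ d ⁻¹' Set.range (pullback.diagonal g) := by
    rintro _ ⟨t, rfl⟩
    refine ⟨a (G t), ?_⟩
    have : (G ≫ a) ≫ pullback.diagonal g = G ≫ d := by
      apply pullback.hom_ext <;> simp [d, hG]
    rw [← Scheme.Hom.comp_apply, ← Scheme.Hom.comp_apply, ← Category.assoc, this, Scheme.Hom.comp_apply]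
  obtain ⟨y, hy⟩ := closure_minimal h1 ((pullback.diagonal g).isClosedEmbedding.isClosed_range.preimage d.continuous) hz
  have e1 := congrArg (fun p => pullback.fst g g p) hy
  have e2 := congrArg (fun p => pullback.snd g g p) hy
  simp only [← Scheme.Hom.comp_apply, pullback.diagonal_fst, pullback.diagonal_snd, d, pullback.lift_fst,
    pullback.lift_snd] at e1 e2
  exact e1.symm.trans e2

set_option maxHeartbeats 1000000 in
theorem union_of_two (H : FlatteningProp.{u}) [IsNoetherian S] (g : U ⟶ S) [IsSeparated g] [LocallyOfFiniteType g]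
    [QuasiCompact g] (U₁ U₂ : U.Opens) (hcov : U₁ ⊔ U₂ = ⊤) (hdense : Dense ((U₁ ⊓ U₂ : U.Opens) : Set U))
    (h₁ : ∃ (Y : Scheme.{u}) (j : (U₁ : Scheme.{u}) ⟶ Y) (p : Y ⟶ S), IsOpenImmersion j ∧ QuasiCompact j ∧ IsProper p ∧ j ≫ p = U₁.ι ≫ g)
    (h₂ : ∃ (Y : Scheme.{u}) (j : (U₂ : Scheme.{u}) ⟶ Y) (p : Y ⟶ S), IsOpenImmersion j ∧ QuasiCompact j ∧ IsProper p ∧ j ≫ p = U₂.ι ≫ g) :
    ∃ (Y : Scheme.{u}) (j : U ⟶ Y) (p : Y ⟶ S), IsOpenImmersion j ∧ QuasiCompact j ∧ IsProper p ∧ j ≫ p = g := by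
  haveI : IsLocallyNoetherian U := LocallyOfFiniteType.isLocallyNoetherian g
  haveI : CompactSpace U := QuasiCompact.compactSpace_of_compactSpace g
  haveI : IsNoetherian U := ⟨⟩
  let O : U.Opens := U₁ ⊓ U₂
  let Uf : Fin 2 → U.Opens := ![U₁, U₂]
  have hOle : ∀ i, O ≤ Uf i := fun i => by fin_cases i <;> simp [Uf, O]
  have hD : ∀ i, Nonempty (PieceData g (Uf i) O (hOle i)) := fun i => by
    fin_cases i
    · exact exists_pieceData H g U₁ O inf_le_left hdense h₁
    · exact exists_pieceData H g U₂ O inf_le_right hdense h₂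
  let D := fun i => (hD i).some
  haveI := fun i => (D i).isProper_p
  haveI := fun i => (D i).isOpen_o
  haveI := fun i => (D i).isProper_h
  haveI := fun i => (D i).isOpen_v
  haveI : ∀ i, IsNoetherian (D i).P := fun i => by
    haveI : IsLocallyNoetherian (D i).P := LocallyOfFiniteType.isLocallyNoetherian (D i).p
    haveI : CompactSpace (D i).P := QuasiCompact.compactSpace_of_compactSpace (D i).p
    exact ⟨⟩
  haveI : ∀ i, IsNoetherian (D i).V := fun i => by
    haveI : IsLocallyNoetherian (D i).V := LocallyOfFiniteType.isLocallyNoetherian (D i).h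
    haveI : CompactSpace (D i).V := QuasiCompact.compactSpace_of_compactSpace (D i).h
    exact ⟨⟩
  haveI : CompactSpace O.toScheme := isCompact_iff_compactSpace.1 (NoetherianSpace.isCompact _)
  haveI : ∀ i, QuasiCompact (D i).o := fun i => quasiCompact_of_compactSpace _
  haveI : QuasiCompact O.ι := quasiCompact_of_compactSpace _
  haveI : IsDominant O.ι := ⟨by rw [DenseRange, Scheme.Opens.range_ι]; exact hdense⟩
  let vv : ∀ i, (O : Scheme.{u}) ⟶ (D i).V := fun i => U.homOfLE (hOle i) ≫ (D i).v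
  haveI : ∀ i, IsOpenImmersion (vv i) := fun i => inferInstance
  haveI : ∀ i, QuasiCompact (vv i) := fun i => quasiCompact_of_compactSpace _
  haveI : ∀ i, IsDominant (vv i) := fun i => ⟨(D i).dense_v⟩
  haveI : ∀ i, IsDominant (vv i ≫ (D i).o) := fun i => ⟨(D i).dense_o⟩
  have hvv : ∀ i, vv i ≫ (D i).h = O.ι := fun i => by
    simp only [vv, Category.assoc, (D i).hv, Scheme.homOfLE_ι]
  have hw : ∀ i, (vv i ≫ (D i).o) ≫ (D i).p = O.ι ≫ g := fun i => by
    rw [Category.assoc, ← (D i).hh, ← Category.assoc, hvv]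
  choose J hJ hJs using fun i => exists_fg_support ((D i).h ⁻¹' ((Uf i : Set U)ᶜ))
    ((Uf i).isOpen.isClosed_compl.preimage (D i).h.continuous)
  have hempty : ∀ z ∈ closure (Set.range (fun x => (WidePullback.lift (O.ι ≫ g) (fun i => vv i ≫ (D i).o) hw) x)),
      ∃ i, (WidePullback.π (fun i => (D i).p) i) z ∉ (fun x => (D i).o x) '' ((J i).support : Set (D i).V) := by
    intro z hz
    by_contra hall
    push Not at hall
    let π := fun i => WidePullback.π (fun i => (D i).p) i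
    let W : (widePullback S (fun i => (D i).P) (fun i => (D i).p) : Scheme.{u}).Opens :=
      π 0 ⁻¹ᵁ (D 0).o.opensRange ⊓ π 1 ⁻¹ᵁ (D 1).o.opensRange
    have hzW : z ∈ W := by
      obtain ⟨x0, -, hx0⟩ := hall 0
      obtain ⟨x1, -, hx1⟩ := hall 1
      exact ⟨⟨x0, hx0⟩, ⟨x1, hx1⟩⟩
    have hr : ∀ i, W ≤ π i ⁻¹ᵁ (D i).o.opensRange := fun i => by
      fin_cases i
      · exact inf_le_left
      · exact inf_le_right
    have hr' : ∀ i, Set.range (W.ι ≫ π i) ⊆ Set.range (D i).o := fun i => by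
      rintro _ ⟨x, rfl⟩
      exact hr i x.2
    let a := fun i => IsOpenImmersion.lift (D i).o (W.ι ≫ π i) (hr' i) ≫ (D i).h
    have hag : ∀ i, a i ≫ g = W.ι ≫ WidePullback.base (fun i => (D i).p) := fun i => by
      simp only [a, Category.assoc, (D i).hh, IsOpenImmersion.lift_fac_assoc, π]
      rw [WidePullback.π_arrow]
    let G : (O : Scheme.{u}) ⟶ W.toScheme := IsOpenImmersion.lift W.ι
      (WidePullback.lift (O.ι ≫ g) (fun i => vv i ≫ (D i).o) hw) (by
        rintro _ ⟨x, rfl⟩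
        rw [Scheme.Opens.range_ι]
        refine ⟨⟨vv 0 x, ?_⟩, ⟨vv 1 x, ?_⟩⟩ <;>
          rw [← Scheme.Hom.comp_apply, ← Scheme.Hom.comp_apply, WidePullback.lift_π])
    have hGW : G ≫ W.ι = WidePullback.lift (O.ι ≫ g) (fun i => vv i ≫ (D i).o) hw := IsOpenImmersion.lift_fac _ _ _
    have hGa : ∀ i, G ≫ a i = O.ι := fun i => by
      have : G ≫ IsOpenImmersion.lift (D i).o (W.ι ≫ π i) (hr' i) = vv i := by
        rw [← cancel_mono (D i).o, Category.assoc, IsOpenImmersion.lift_fac, reassoc_of% hGW]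
        simp only [π, WidePullback.lift_π]
      simp only [a]
      rw [reassoc_of% this, hvv]
    have hzc : (⟨z, hzW⟩ : W.toScheme) ∈ closure (Set.range G) := by
      rw [W.ι.isOpenEmbedding.isInducing.closure_eq_preimage_closure_image]
      show z ∈ closure _
      rw [← Set.range_comp, ← TopCat.coe_comp, ← Scheme.Hom.comp_base, hGW]
      exact hz
    have heq := apply_eq_of_closure g (a 0) (a 1) ((hag 0).trans (hag 1).symm) G ((hGa 0).trans (hGa 1).symm) _ hzc
    have hnot : ∀ i, a i ⟨z, hzW⟩ ∉ Uf i := fun i => by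
      obtain ⟨x, hx, hxz⟩ := hall i
      rw [hJs] at hx
      have : IsOpenImmersion.lift (D i).o (W.ι ≫ π i) (hr' i) ⟨z, hzW⟩ = x := (D i).o.injective (by
        rw [← Scheme.Hom.comp_apply, IsOpenImmersion.lift_fac]; exact hxz.symm)
      show (D i).h (IsOpenImmersion.lift (D i).o (W.ι ≫ π i) (hr' i) ⟨z, hzW⟩) ∉ Uf i
      rw [this]; exact hx
    rcases (hcov.ge (TopologicalSpace.Opens.mem_top (a 0 ⟨z, hzW⟩)) : a 0 ⟨z, hzW⟩ ∈ U₁ ⊔ U₂) with h | h
    · exact hnot 0 h
    · exact hnot 1 (by rw [← heq]; exact h)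
  obtain ⟨E, P', c, v', w', hc, hfin⟩ := S17394.result g (fun i => (D i).V) (fun i => (D i).P) (fun i => (D i).p)
    (fun i => (D i).o) (fun i => (D i).h) (fun i => (D i).hh) O.ι vv hvv hw J hJ hempty
  haveI : ∀ i, IsProper (c i) := fun i => BlowUpLib.isProper_of_isBlowUp _ (hc i).1 (hc i).2.1.1
  choose o' ho'o ho' ho'r using fun i => exists_lift_open (hc i).1 (D i).o (hc i).2.1.2
  have hv' : ∀ i, vv i ≫ o' i = v' i := fun i => by
    refine lift_eq (hc i).1 (vv i ≫ (D i).o) (fun t h => ?_) (by rw [Category.assoc, ho' i]) (hc i).2.2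
    rw [Scheme.Hom.comp_apply] at h
    exact Set.disjoint_left.1 (hc i).2.1.2 h ⟨_, rfl⟩
  have hp : ∀ i, (D i).h ≫ g = o' i ≫ c i ≫ (D i).p := fun i => by rw [reassoc_of% (ho' i)]; exact (D i).hh
  let G0 : (O : Scheme.{u}) ⟶ pullback (c 0 ≫ (D 0).p) (c 1 ≫ (D 1).p) :=
    pullback.lift (v' 0) (v' 1) ((w' 0).trans (w' 1).symm)
  refine glue_step H g U₁ U₂ hcov hdense (c 0 ≫ (D 0).p) (c 1 ≫ (D 1).p) (o' 0) (o' 1) (D 0).h (D 1).h
    (hp 0) (hp 1) (D 0).v (D 1).v (D 0).hv (D 1).hv G0 ?_ ?_ ?_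
  · rw [pullback.lift_fst, ← hv' 0]; simp only [vv, Category.assoc]
  · rw [pullback.lift_snd, ← hv' 1]; simp only [vv, Category.assoc]
  · intro z hz
    let fs : ∀ i : Fin 2, pullback (c 0 ≫ (D 0).p) (c 1 ≫ (D 1).p) ⟶ P' i :=
      Fin.cases (pullback.fst _ _) (fun j => Fin.cases (motive := fun j : Fin 1 => _ ⟶ P' j.succ)
        (pullback.snd _ _) (fun k => k.elim0) j)
    have hfs : ∀ i, fs i ≫ c i ≫ (D i).p = pullback.fst (c 0 ≫ (D 0).p) (c 1 ≫ (D 1).p) ≫ c 0 ≫ (D 0).p := fun i => by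
      fin_cases i
      · rfl
      · exact pullback.condition.symm
    let m : pullback (c 0 ≫ (D 0).p) (c 1 ≫ (D 1).p) ⟶
        widePullback S P' (fun i => c i ≫ (D i).p) := WidePullback.lift _ fs hfs
    have hm : G0 ≫ m = WidePullback.lift (O.ι ≫ g) (fun i => v' i) w' := by
      apply WidePullback.hom_ext
      · intro i
        rw [Category.assoc, WidePullback.lift_π, WidePullback.lift_π]
        fin_cases i
        · exact pullback.lift_fst _ _ _
        · exact pullback.lift_snd _ _ _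
      · rw [Category.assoc, WidePullback.lift_base, WidePullback.lift_base, ← Category.assoc, pullback.lift_fst]
        exact w' 0
    have hmz : m z ∈ closure (Set.range (fun x => (WidePullback.lift (O.ι ≫ g) (fun i => v' i) w') x)) := by
      rw [← hm]
      have := image_closure_subset_closure_image m.continuous ⟨z, hz, rfl⟩
      rwa [← Set.range_comp] at this
    have himg : ∀ i, (fun y => c i y) ⁻¹' ((fun x => (D i).o x) '' ((J i).support : Set (D i).V)) ⊇
        o' i '' ((D i).h ⁻¹' (Uf i : Set U)ᶜ) := fun i => by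
      rintro _ ⟨x, hx, rfl⟩
      refine ⟨x, (hJs i).ge hx, ?_⟩
      show (D i).o x = c i (o' i x)
      rw [← Scheme.Hom.comp_apply, ho' i]
    obtain ⟨i, hi⟩ := hfin _ hmz
    rw [← Scheme.Hom.comp_apply, WidePullback.lift_π] at hi
    fin_cases i
    · exact Or.inl fun h => hi (closure_mono (himg 0) h)
    · exact Or.inr fun h => hi (closure_mono (himg 1) h)

end Groth.Agent.StrictST17
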