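import Groth.Agent.StrictST17.UnionPiece
import Groth.Agent.StrictST17.BlowLift
import Mathlib.AlgebraicGeometry.Morphisms.Proper

/-!
# Lemmas for gluing compactifications of two opens
-/

set_option autoImplicit false
set_option linter.style.haveILetI false
set_option backward.isDefEq.respectTransparency false
set_option backward.isDefEq.respectTransparency.types false

universe u

open CategoryTheory Limits AlgebraicGeometry TopologicalSpace

namespace Groth.Agent.StrictST17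

variable {X Y Z S : Scheme.{u}}

/-- A monomorphism gives a trivial pullback square. -/
theorem isPullback_of_mono {A : Scheme.{u}} (s : Z ⟶ A) (M : A ⟶ X) [Mono M] (s' : Z ⟶ X) (h : s ≫ M = s') :
    IsPullback s (𝟙 Z) M s' := by
  refine IsPullback.of_isLimit' ⟨by rw [h, Category.id_comp]⟩ (PullbackCone.IsLimit.mk _ (fun c => c.snd)
    (fun c => ?_) (fun c => Category.comp_id _) fun c m _ h2 => by rw [← h2, Category.comp_id])
  rw [← cancel_mono M, Category.assoc, h, c.condition]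

/-- The kernel of a factored morphism is the restriction of the kernel. -/
theorem ker_eq_comap_ker {A : Scheme.{u}} (s : Z ⟶ A) (M : A ⟶ X) [IsOpenImmersion M] (s' : Z ⟶ X)
    [QuasiCompact s'] (h : s ≫ M = s') : s.ker = s'.ker.comap M := by
  have := MorLib.IdealFG.comap_map (isPullback_of_mono s M s' h) (⊥ : Z.IdealSheafData)
  rwa [Scheme.IdealSheafData.comap_bot, Scheme.IdealSheafData.map_bot, Scheme.IdealSheafData.map_bot] at this

/-- A morphism which is an isomorphism over a smaller open with the same preimage is an open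
immersion over the bigger one. -/
theorem isOpenImmersion_restrict (φ : X ⟶ Y) (R' R : Y.Opens) (hle : R' ≤ R) (h : φ ⁻¹ᵁ R ≤ φ ⁻¹ᵁ R')
    [IsIso (φ ∣_ R')] : IsOpenImmersion (φ ∣_ R) := by
  haveI : IsOpenImmersion ((φ ∣_ R) ≫ R.ι) := by
    rw [morphismRestrict_ι, ← X.homOfLE_ι h, Category.assoc, ← morphismRestrict_ι]
    infer_instance
  exact IsOpenImmersion.of_comp _ R.ι

/-- Over the image of the source, the scheme theoretic image has no other points. -/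
theorem exists_toImage_eq {P O : Scheme.{u}} (s : O ⟶ P) (f : P ⟶ X) (j : O ⟶ X) [IsOpenImmersion j]
    [IsIso ((s.ker.subschemeι ≫ f) ∣_ j.opensRange)] (hj : s ≫ f = j) (y : s.ker.subscheme)
    (hy : f (s.ker.subschemeι y) ∈ Set.range j) : ∃ t, s.toImage t = y := by
  set φ := s.ker.subschemeι ≫ f with hφdef
  have hφ : s.toImage ≫ φ = j := by
    show s.toImage ≫ s.imageι ≫ f = j
    rw [s.toImage_imageι_assoc, hj]
  obtain ⟨t, ht⟩ := hy
  have hm : s.toImage t ∈ φ ⁻¹ᵁ j.opensRange := ⟨t, by rw [← Scheme.Hom.comp_apply, hφ]⟩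
  have ht' : j t = φ y := ht
  refine ⟨t, congrArg Subtype.val ((φ ∣_ j.opensRange).homeomorph.injective
    (a₁ := ⟨s.toImage t, hm⟩) (a₂ := ⟨y, t, ht'⟩) (Subtype.ext ?_))⟩
  show ((φ ∣_ j.opensRange) ⟨s.toImage t, hm⟩).1 = ((φ ∣_ j.opensRange) ⟨y, t, ht'⟩).1
  rw [morphismRestrict_base_coe, morphismRestrict_base_coe]
  show φ (s.toImage t) = φ y
  rw [← Scheme.Hom.comp_apply, hφ, ← ht']

/-- A morphism is an open immersion if it is injective and one on an open cover. -/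
theorem isOpenImmersion_of_cover {ι : Type*} (f : X ⟶ Y) (U : ι → X.Opens) (hU : ∀ x : X, ∃ i, x ∈ U i)
    (h : ∀ i, IsOpenImmersion ((U i).ι ≫ f)) (hinj : Function.Injective f) : IsOpenImmersion f := by
  have hstalk : ∀ x : X, IsIso (f.stalkMap x) := fun x => by
    obtain ⟨i, hx⟩ := hU x
    haveI := h i
    haveI h1 : IsIso (((U i).ι ≫ f).stalkMap ⟨x, hx⟩) := inferInstance
    rw [Scheme.Hom.stalkMap_comp] at h1
    exact @IsIso.of_isIso_comp_right _ _ _ _ _ (f.stalkMap ((U i).ι ⟨x, hx⟩)) ((U i).ι.stalkMap ⟨x, hx⟩) _ h1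
  refine IsOpenImmersion.of_isIso_stalkMap f (Topology.IsOpenEmbedding.of_continuous_injective_isOpenMap
    f.continuous hinj fun G hG => ?_)
  have : f '' G = ⋃ i, ((U i).ι ≫ f) '' ((U i).ι ⁻¹' G) := by
    ext y
    simp only [Set.mem_image, Set.mem_iUnion, Set.mem_preimage]
    constructor
    · rintro ⟨x, hx, rfl⟩
      obtain ⟨i, hxi⟩ := hU x
      exact ⟨i, ⟨x, hxi⟩, hx, Scheme.Hom.comp_apply _ _ _⟩
    · rintro ⟨i, x, hx, rfl⟩
      exact ⟨_, hx, (Scheme.Hom.comp_apply _ _ _).symm⟩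
  rw [this]
  exact isOpen_iUnion fun i => by
    haveI := h i
    exact ((U i).ι ≫ f).isOpenEmbedding.isOpenMap _ (hG.preimage (U i).ι.continuous)

/-- A point over the first piece, outside the overlap, lies over the residual closed set of the
second compactification. -/
theorem snd_mem_closure {U : Scheme.{u}} (g : U ⟶ S) [IsSeparated g] (U₁ U₂ O : U.Opens) (hO₁ : O ≤ U₁) (hO₂ : O ≤ U₂)
    {P₁ P₂ V₁ V₂ : Scheme.{u}} (p₁ : P₁ ⟶ S) (p₂ : P₂ ⟶ S) [IsSeparated p₂]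
    (h₁ : V₁ ⟶ U) (h₂ : V₂ ⟶ U) [IsProper h₂] (o₁ : V₁ ⟶ P₁) (o₂ : V₂ ⟶ P₂) [IsOpenImmersion o₁] [IsOpenImmersion o₂]
    (hh₁ : h₁ ≫ g = o₁ ≫ p₁) (hh₂ : h₂ ≫ g = o₂ ≫ p₂)
    (v₁ : (U₁ : Scheme.{u}) ⟶ V₁) [IsOpenImmersion v₁] (v₂ : (U₂ : Scheme.{u}) ⟶ V₂)
    (hv₁ : v₁ ≫ h₁ = U₁.ι) (hv₂ : v₂ ≫ h₂ = U₂.ι)
    (G0 : (O : Scheme.{u}) ⟶ pullback p₁ p₂) (hG₁ : G0 ≫ pullback.fst p₁ p₂ = U.homOfLE hO₁ ≫ v₁ ≫ o₁)
    (hG₂ : G0 ≫ pullback.snd p₁ p₂ = U.homOfLE hO₂ ≫ v₂ ≫ o₂)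
    (z : (pullback p₁ p₂ : Scheme.{u})) (hz : z ∈ closure (Set.range G0)) (u₁ : U₁.toScheme)
    (hu₁ : pullback.fst p₁ p₂ z = (v₁ ≫ o₁) u₁) (hu₂ : u₁.1 ∉ U₂) :
    pullback.snd p₁ p₂ z ∈ closure (o₂ '' (h₂ ⁻¹' (U₂ : Set U)ᶜ)) := by
  let n : pullback U₁.ι h₂ ⟶ pullback (U₁.ι ≫ g) p₂ :=
    pullback.lift (pullback.fst _ _) (pullback.snd _ _ ≫ o₂)
      (by rw [Category.assoc, ← hh₂, ← Category.assoc, pullback.condition, Category.assoc])
  haveI : IsProper n := by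
    haveI : IsProper (n ≫ pullback.fst (U₁.ι ≫ g) p₂) := by rw [pullback.lift_fst]; infer_instance
    exact IsProper.of_comp n (pullback.fst (U₁.ι ≫ g) p₂)
  let m : pullback (U₁.ι ≫ g) p₂ ⟶ pullback p₁ p₂ :=
    pullback.map _ _ _ _ (v₁ ≫ o₁) (𝟙 _) (𝟙 _)
      (by rw [Category.comp_id, Category.assoc, ← hh₁, ← Category.assoc, hv₁]) (by simp)
  haveI : IsOpenImmersion m := inferInstance
  let k : (O : Scheme.{u}) ⟶ pullback U₁.ι h₂ :=
    pullback.lift (U.homOfLE hO₁) (U.homOfLE hO₂ ≫ v₂) (by rw [Category.assoc, hv₂, Scheme.homOfLE_ι, Scheme.homOfLE_ι])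
  have hk : (k ≫ n) ≫ m = G0 := by
    apply pullback.hom_ext
    · simp [k, n, m, hG₁]
    · simp [k, n, m, hG₂]
  obtain ⟨w, rfl⟩ : z ∈ Set.range m := by
    rw [Scheme.Pullback.range_map]
    exact ⟨⟨u₁, hu₁.symm⟩, ⟨_, rfl⟩⟩
  have hw : w ∈ closure (m ⁻¹' Set.range G0) := by
    rw [← m.isOpenEmbedding.isOpenMap.preimage_closure_eq_closure_preimage m.continuous]
    exact hz
  have hsub : m ⁻¹' Set.range G0 ⊆ Set.range n := by
    rintro y ⟨t, ht⟩
    rw [← hk, Scheme.Hom.comp_apply] at ht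
    exact ⟨k t, m.isOpenEmbedding.injective (by rw [← ht, Scheme.Hom.comp_apply])⟩
  obtain ⟨t, rfl⟩ := closure_minimal hsub n.isClosedMap.isClosed_range hw
  have e1 : pullback.fst p₁ p₂ (m (n t)) = (v₁ ≫ o₁) (pullback.fst U₁.ι h₂ t) := by
    rw [← Scheme.Hom.comp_apply, ← Scheme.Hom.comp_apply, ← Scheme.Hom.comp_apply]
    congr 1
    simp [n, m]
  have e2 : pullback.snd p₁ p₂ (m (n t)) = o₂ (pullback.snd U₁.ι h₂ t) := by
    rw [← Scheme.Hom.comp_apply, ← Scheme.Hom.comp_apply, ← Scheme.Hom.comp_apply]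
    congr 1
    simp [n, m]
  have e3 : pullback.fst U₁.ι h₂ t = u₁ := (v₁ ≫ o₁).isOpenEmbedding.injective (e1.symm.trans hu₁)
  rw [e2]
  refine subset_closure ⟨_, ?_, rfl⟩
  show h₂ (pullback.snd U₁.ι h₂ t) ∉ U₂
  rw [← Scheme.Hom.comp_apply, ← pullback.condition, Scheme.Hom.comp_apply, e3]
  exact hu₂

end Groth.Agent.StrictST17
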