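import Groth.Agent.StrictST17.UnionAux
import Groth.Agent.GlueSep17.Basic

/-!
# Gluing two partial compactifications
-/

set_option autoImplicit false
set_option linter.style.haveILetI false
set_option backward.isDefEq.respectTransparency false
set_option backward.isDefEq.respectTransparency.types false

universe u

open CategoryTheory Limits AlgebraicGeometry TopologicalSpace

namespace Groth.Agent.StrictST17

set_option maxHeartbeats 1000000 in
theorem glue_pieces {S U : Scheme.{u}} [IsNoetherian S] (g : U ⟶ S) [IsSeparated g] [LocallyOfFiniteType g]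
    [QuasiCompact g] (U₁ U₂ : U.Opens) (hcov : U₁ ⊔ U₂ = ⊤) (hdense : Dense ((U₁ ⊓ U₂ : U.Opens) : Set U))
    {X₁ X₂ Z : Scheme.{u}} (f₁ : X₁ ⟶ S) (f₂ : X₂ ⟶ S) [IsProper f₁] [IsProper f₂] (O₁ : X₁.Opens) (O₂ : X₂.Opens)
    (u₁ : (U₁ : Scheme.{u}) ⟶ X₁) (u₂ : (U₂ : Scheme.{u}) ⟶ X₂) [IsOpenImmersion u₁] [IsOpenImmersion u₂]
    (hu₁ : u₁ ≫ f₁ = U₁.ι ≫ g) (hu₂ : u₂ ≫ f₂ = U₂.ι ≫ g)
    (hO₁ : Set.range u₁ ⊆ O₁) (hO₂ : Set.range u₂ ⊆ O₂)
    (w₁ : Z ⟶ (O₁ : Scheme.{u})) (w₂ : Z ⟶ (O₂ : Scheme.{u})) [IsOpenImmersion w₁] [IsOpenImmersion w₂]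
    (hw : w₁ ≫ O₁.ι ≫ f₁ = w₂ ≫ O₂.ι ≫ f₂) [IsClosedImmersion (pullback.lift w₁ w₂ hw)]
    (u₀ : ((U₁ ⊓ U₂ : U.Opens) : Scheme.{u}) ⟶ Z)
    (hu₀₁ : u₀ ≫ w₁ ≫ O₁.ι = U.homOfLE inf_le_left ≫ u₁) (hu₀₂ : u₀ ≫ w₂ ≫ O₂.ι = U.homOfLE inf_le_right ≫ u₂)
    (hsep : ∀ (z : Z) (a : U₁.toScheme), O₁.ι (w₁ z) = u₁ a → a.1 ∈ U₂)
    (hcovQ : ∀ z ∈ closure (Set.range (pullback.lift (U.homOfLE inf_le_left ≫ u₁) (U.homOfLE inf_le_right ≫ u₂)
        (by rw [Category.assoc, Category.assoc, hu₁, hu₂, Scheme.homOfLE_ι_assoc, Scheme.homOfLE_ι_assoc]) :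
        ((U₁ ⊓ U₂ : U.Opens) : Scheme.{u}) ⟶ pullback f₁ f₂)),
      pullback.fst f₁ f₂ z ∈ O₁ ∨ pullback.snd f₁ f₂ z ∈ O₂) :
    ∃ (Y : Scheme.{u}) (j : U ⟶ Y) (p : Y ⟶ S), IsOpenImmersion j ∧ QuasiCompact j ∧ IsProper p ∧ j ≫ p = g := by
  haveI : CompactSpace U := QuasiCompact.compactSpace_of_compactSpace g
  haveI : IsLocallyNoetherian U := LocallyOfFiniteType.isLocallyNoetherian g
  haveI : IsNoetherian U := ⟨⟩
  haveI : IsLocallyNoetherian X₁ := LocallyOfFiniteType.isLocallyNoetherian f₁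
  haveI : CompactSpace X₁ := QuasiCompact.compactSpace_of_compactSpace f₁
  haveI : IsNoetherian X₁ := ⟨⟩
  haveI : IsLocallyNoetherian X₂ := LocallyOfFiniteType.isLocallyNoetherian f₂
  haveI : CompactSpace X₂ := QuasiCompact.compactSpace_of_compactSpace f₂
  haveI : IsNoetherian X₂ := ⟨⟩
  haveI : QuasiCompact O₁.ι := quasiCompact_ι (NoetherianSpace.isCompact _)
  haveI : QuasiCompact O₂.ι := quasiCompact_ι (NoetherianSpace.isCompact _)
  let O : U.Opens := U₁ ⊓ U₂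
  have hcl : IsClosed (Set.range (pullback.lift w₁ w₂ hw)) := (pullback.lift w₁ w₂ hw).isClosedEmbedding.isClosed_range
  let q : pushout w₁ w₂ ⟶ S := pushout.desc (O₁.ι ≫ f₁) (O₂.ι ≫ f₂) hw
  haveI : IsSeparated q := GlueSep17.isSeparated_desc w₁ w₂ _ _ hw hcl
  haveI : QuasiCompact q := GlueSep17.quasiCompact_desc w₁ w₂ _ _ hw
  haveI : LocallyOfFiniteType q := GlueSep17.locallyOfFiniteType_desc w₁ w₂ _ _ hw
  have hq₁ : pushout.inl w₁ w₂ ≫ q = O₁.ι ≫ f₁ := pushout.inl_desc _ _ _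
  have hq₂ : pushout.inr w₁ w₂ ≫ q = O₂.ι ≫ f₂ := pushout.inr_desc _ _ _
  have hr₁ : Set.range u₁ ⊆ Set.range O₁.ι := by rwa [Scheme.Opens.range_ι]
  have hr₂ : Set.range u₂ ⊆ Set.range O₂.ι := by rwa [Scheme.Opens.range_ι]
  let t₁ := IsOpenImmersion.lift O₁.ι u₁ hr₁
  let t₂ := IsOpenImmersion.lift O₂.ι u₂ hr₂
  haveI : IsOpenImmersion t₁ := by
    haveI : IsOpenImmersion (t₁ ≫ O₁.ι) := by rw [IsOpenImmersion.lift_fac]; infer_instance
    exact IsOpenImmersion.of_comp t₁ O₁.ι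
  haveI : IsOpenImmersion t₂ := by
    haveI : IsOpenImmersion (t₂ ≫ O₂.ι) := by rw [IsOpenImmersion.lift_fac]; infer_instance
    exact IsOpenImmersion.of_comp t₂ O₂.ι
  have e₁ : U.homOfLE inf_le_left ≫ t₁ = u₀ ≫ w₁ := by
    rw [← cancel_mono O₁.ι, Category.assoc, IsOpenImmersion.lift_fac, Category.assoc, hu₀₁]
  have e₂ : U.homOfLE inf_le_right ≫ t₂ = u₀ ≫ w₂ := by
    rw [← cancel_mono O₂.ι, Category.assoc, IsOpenImmersion.lift_fac, Category.assoc, hu₀₂]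
  let σ₁ := t₁ ≫ pushout.inl w₁ w₂
  let σ₂ := t₂ ≫ pushout.inr w₁ w₂
  have hagree : U.homOfLE (inf_le_left : O ≤ U₁) ≫ σ₁ = U.homOfLE (inf_le_right : O ≤ U₂) ≫ σ₂ := by
    simp only [σ₁, σ₂]
    rw [reassoc_of% e₁, reassoc_of% e₂, pushout.condition]
  let Uf : Bool → U.Opens := fun b => match b with | true => U₁ | false => U₂
  have hUf : ∀ x : U, ∃ b, x ∈ Uf b := fun x => by
    rcases (hcov.ge (TopologicalSpace.Opens.mem_top x) : x ∈ U₁ ⊔ U₂) with h | h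
    · exact ⟨true, h⟩
    · exact ⟨false, h⟩
  let 𝒰 := U.openCoverOfIsOpenCover Uf (top_unique fun x _ => Opens.mem_iSup.2 (hUf x))
  let σ : ∀ b, (Uf b : Scheme.{u}) ⟶ pushout w₁ w₂ := fun b => match b with | true => σ₁ | false => σ₂
  have hmix : pullback.fst U₁.ι U₂.ι ≫ σ₁ = pullback.snd U₁.ι U₂.ι ≫ σ₂ := by
    have hin : Set.range (pullback.fst U₁.ι U₂.ι ≫ U₁.ι) ⊆ Set.range O.ι := by
      rintro _ ⟨x, rfl⟩
      rw [Scheme.Opens.range_ι]
      refine ⟨(pullback.fst U₁.ι U₂.ι x).2, ?_⟩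
      rw [pullback.condition, Scheme.Hom.comp_apply]
      exact (pullback.snd U₁.ι U₂.ι x).2
    have k1 : IsOpenImmersion.lift O.ι _ hin ≫ U.homOfLE inf_le_left = pullback.fst U₁.ι U₂.ι := by
      rw [← cancel_mono U₁.ι, Category.assoc, Scheme.homOfLE_ι, IsOpenImmersion.lift_fac]
    have k2 : IsOpenImmersion.lift O.ι _ hin ≫ U.homOfLE inf_le_right = pullback.snd U₁.ι U₂.ι := by
      rw [← cancel_mono U₂.ι, Category.assoc, Scheme.homOfLE_ι, IsOpenImmersion.lift_fac, pullback.condition]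
    rw [← k1, ← k2, Category.assoc, Category.assoc, hagree]
  let jY : U ⟶ pushout w₁ w₂ := 𝒰.glueMorphisms σ fun b c => by
    show pullback.fst (Uf b).ι (Uf c).ι ≫ σ b = pullback.snd (Uf b).ι (Uf c).ι ≫ σ c
    cases b <;> cases c
    · rw [(cancel_mono (Uf false).ι).mp pullback.condition]
    · show pullback.fst U₂.ι U₁.ι ≫ σ₂ = pullback.snd U₂.ι U₁.ι ≫ σ₁
      have h := congrArg ((pullbackSymmetry U₂.ι U₁.ι).hom ≫ ·) hmix
      simp only [← Category.assoc, pullbackSymmetry_hom_comp_fst, pullbackSymmetry_hom_comp_snd] at h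
      exact h.symm
    · exact hmix
    · rw [(cancel_mono (Uf true).ι).mp pullback.condition]
  have hj₁ : U₁.ι ≫ jY = σ₁ := 𝒰.ι_glueMorphisms σ _ true
  have hj₂ : U₂.ι ≫ jY = σ₂ := 𝒰.ι_glueMorphisms σ _ false
  have hjg : jY ≫ q = g := 𝒰.hom_ext _ _ fun b => by
    cases b
    · show U₂.ι ≫ jY ≫ q = U₂.ι ≫ g
      rw [reassoc_of% hj₂]; simp only [σ₂, Category.assoc]
      rw [hq₂, IsOpenImmersion.lift_fac_assoc, hu₂]
    · show U₁.ι ≫ jY ≫ q = U₁.ι ≫ g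
      rw [reassoc_of% hj₁]; simp only [σ₁, Category.assoc]
      rw [hq₁, IsOpenImmersion.lift_fac_assoc, hu₁]
  have hinj : Function.Injective jY := by
    have key : ∀ (a : U₁.toScheme) (b : U₂.toScheme), σ₁ a = σ₂ b → a.1 = b.1 := by
      intro a b hab
      obtain ⟨z, hz⟩ := GlueSep17.mem_range_of_eq w₁ w₂ (x₁ := t₁ a) (x₂ := t₂ b) (by
        simpa only [σ₁, σ₂, Scheme.Hom.comp_apply] using hab)
      have hmem : a.1 ∈ U₂ := hsep z a (by
        rw [hz, ← Scheme.Hom.comp_apply, IsOpenImmersion.lift_fac])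
      have h1 := congrArg (fun k => k (⟨a.1, a.2, hmem⟩ : O.toScheme)) hagree
      simp only [Scheme.Hom.comp_apply] at h1
      have h2 : U.homOfLE (inf_le_left : O ≤ U₁) (⟨a.1, a.2, hmem⟩ : O.toScheme) = a := U₁.ι.injective (by
        rw [← Scheme.Hom.comp_apply, Scheme.homOfLE_ι]; rfl)
      rw [h2] at h1
      have h3 := σ₂.isOpenEmbedding.injective (hab.symm.trans h1)
      rw [h3, show (U.homOfLE (inf_le_right : O ≤ U₂) (⟨a.1, a.2, hmem⟩ : O.toScheme)).1 =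
        U₂.ι (U.homOfLE (inf_le_right : O ≤ U₂) (⟨a.1, a.2, hmem⟩ : O.toScheme)) from rfl,
        ← Scheme.Hom.comp_apply, Scheme.homOfLE_ι]
      rfl
    intro x y hxy
    obtain ⟨b, hb⟩ := hUf x
    obtain ⟨c, hc⟩ := hUf y
    have ex : σ b ⟨x, hb⟩ = jY x := by
      show σ b ⟨x, hb⟩ = jY ((Uf b).ι ⟨x, hb⟩)
      rw [← Scheme.Hom.comp_apply]
      exact congrArg (fun k => k (⟨x, hb⟩ : (Uf b).toScheme)) (𝒰.ι_glueMorphisms σ _ b).symm
    have ey : σ c ⟨y, hc⟩ = jY y := by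
      show σ c ⟨y, hc⟩ = jY ((Uf c).ι ⟨y, hc⟩)
      rw [← Scheme.Hom.comp_apply]
      exact congrArg (fun k => k (⟨y, hc⟩ : (Uf c).toScheme)) (𝒰.ι_glueMorphisms σ _ c).symm
    have hσ : σ b ⟨x, hb⟩ = σ c ⟨y, hc⟩ := by rw [ex, ey, hxy]
    cases b <;> cases c
    · exact congrArg Subtype.val (σ₂.isOpenEmbedding.injective hσ)
    · exact (key ⟨y, hc⟩ ⟨x, hb⟩ hσ.symm).symm
    · exact key ⟨x, hb⟩ ⟨y, hc⟩ hσ
    · exact congrArg Subtype.val (σ₁.isOpenEmbedding.injective hσ)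
  haveI : IsOpenImmersion jY := isOpenImmersion_of_cover jY Uf hUf (fun b => by
    rw [show (Uf b).ι ≫ jY = σ b from 𝒰.ι_glueMorphisms σ _ b]
    cases b <;> infer_instance) hinj
  -- a proper scheme mapping onto the closure of `U`
  let s' : (O : Scheme.{u}) ⟶ pullback f₁ f₂ :=
    pullback.lift (U.homOfLE inf_le_left ≫ u₁) (U.homOfLE inf_le_right ≫ u₂)
      (by rw [Category.assoc, Category.assoc, hu₁, hu₂, Scheme.homOfLE_ι_assoc, Scheme.homOfLE_ι_assoc])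
  haveI : CompactSpace O.toScheme := isCompact_iff_compactSpace.1 (NoetherianSpace.isCompact _)
  haveI : QuasiSeparatedSpace (pullback f₁ f₂ : Scheme.{u}) :=
    quasiSeparatedSpace_of_quasiSeparated (pullback.fst f₁ f₂)
  haveI : QuasiCompact s' := quasiCompact_of_compactSpace s'
  let Q := s'.ker.subscheme
  let Q₁ : Q.Opens := (s'.ker.subschemeι ≫ pullback.fst f₁ f₂) ⁻¹ᵁ O₁
  let Q₂ : Q.Opens := (s'.ker.subschemeι ≫ pullback.snd f₁ f₂) ⁻¹ᵁ O₂
  have hQ : ∀ x : Q, x ∈ Q₁ ∨ x ∈ Q₂ := fun x => by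
    refine hcovQ (s'.ker.subschemeι x) ?_
    have : s'.ker.subschemeι x ∈ (s'.ker.support : Set ↥(pullback f₁ f₂)) := by
      rw [← Scheme.IdealSheafData.range_subschemeι]; exact ⟨x, rfl⟩
    rwa [Scheme.Hom.support_ker] at this
  let a₁ : (Q₁ : Scheme.{u}) ⟶ O₁ := IsOpenImmersion.lift O₁.ι (Q₁.ι ≫ s'.ker.subschemeι ≫ pullback.fst f₁ f₂) (by
    rintro _ ⟨x, rfl⟩; rw [Scheme.Opens.range_ι]; exact x.2)
  let a₂ : (Q₂ : Scheme.{u}) ⟶ O₂ := IsOpenImmersion.lift O₂.ι (Q₂.ι ≫ s'.ker.subschemeι ≫ pullback.snd f₁ f₂) (by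
    rintro _ ⟨x, rfl⟩; rw [Scheme.Opens.range_ι]; exact x.2)
  have hover : pullback.fst Q₁.ι Q₂.ι ≫ a₁ ≫ pushout.inl w₁ w₂ = pullback.snd Q₁.ι Q₂.ι ≫ a₂ ≫ pushout.inr w₁ w₂ := by
    let m : pullback Q₁.ι Q₂.ι ⟶ pullback (O₁.ι ≫ f₁) (O₂.ι ≫ f₂) :=
      pullback.lift (pullback.fst _ _ ≫ a₁) (pullback.snd _ _ ≫ a₂) (by
        simp only [a₁, a₂, Category.assoc, IsOpenImmersion.lift_fac_assoc]
        rw [pullback.condition_assoc, pullback.condition])
    let M : pullback (O₁.ι ≫ f₁) (O₂.ι ≫ f₂) ⟶ pullback f₁ f₂ :=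
      pullback.map _ _ _ _ O₁.ι O₂.ι (𝟙 S) (by simp) (by simp)
    haveI : IsOpenImmersion M := inferInstance
    let G := pullback.lift w₁ w₂ hw
    have hs : (u₀ ≫ G) ≫ M = s' := by
      apply pullback.hom_ext
      · simp [G, M, s', hu₀₁]
      · simp [G, M, s', hu₀₂]
    have hm : m ≫ M = (pullback.fst Q₁.ι Q₂.ι ≫ Q₁.ι) ≫ s'.ker.subschemeι := by
      apply pullback.hom_ext
      · simp [m, M, a₁]
      · simp only [m, M, Category.assoc, pullback.lift_snd, pullback.lift_snd_assoc, a₂, IsOpenImmersion.lift_fac]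
        rw [← pullback.condition_assoc]
    have hle : G.ker ≤ m.ker := by
      refine le_trans (Scheme.Hom.le_ker_comp u₀ G) ?_
      rw [ker_eq_comap_ker (u₀ ≫ G) M s' hs, ← Scheme.IdealSheafData.le_map_iff_comap_le, ← Scheme.Hom.ker_comp,
        hm]
      exact le_trans (Scheme.IdealSheafData.ker_subschemeι _).ge (Scheme.Hom.le_ker_comp _ _)
    have hk := IsClosedImmersion.lift_fac G m hle
    have k1 : IsClosedImmersion.lift G m hle ≫ w₁ = pullback.fst Q₁.ι Q₂.ι ≫ a₁ := by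
      rw [← pullback.lift_fst w₁ w₂ hw, ← Category.assoc]
      change (IsClosedImmersion.lift G m hle ≫ G) ≫ _ = _
      rw [hk]
      exact pullback.lift_fst _ _ _
    have k2 : IsClosedImmersion.lift G m hle ≫ w₂ = pullback.snd Q₁.ι Q₂.ι ≫ a₂ := by
      rw [← pullback.lift_snd w₁ w₂ hw, ← Category.assoc]
      change (IsClosedImmersion.lift G m hle ≫ G) ≫ _ = _
      rw [hk]
      exact pullback.lift_snd _ _ _
    rw [← reassoc_of% k1, ← reassoc_of% k2, pushout.condition]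
  let Qf : Bool → Q.Opens := fun b => match b with | true => Q₁ | false => Q₂
  let 𝒬 := Q.openCoverOfIsOpenCover Qf (top_unique fun x _ => Opens.mem_iSup.2
    ((hQ x).elim (fun h => ⟨true, h⟩) (fun h => ⟨false, h⟩)))
  let τ : ∀ b, (Qf b : Scheme.{u}) ⟶ pushout w₁ w₂ :=
    fun b => match b with | true => a₁ ≫ pushout.inl w₁ w₂ | false => a₂ ≫ pushout.inr w₁ w₂
  let π : Q ⟶ pushout w₁ w₂ := 𝒬.glueMorphisms τ fun b c => by
    show pullback.fst (Qf b).ι (Qf c).ι ≫ τ b = pullback.snd (Qf b).ι (Qf c).ι ≫ τ c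
    cases b <;> cases c
    · rw [(cancel_mono (Qf false).ι).mp pullback.condition]
    · show pullback.fst Q₂.ι Q₁.ι ≫ a₂ ≫ _ = pullback.snd Q₂.ι Q₁.ι ≫ a₁ ≫ _
      have h := congrArg ((pullbackSymmetry Q₂.ι Q₁.ι).hom ≫ ·) hover
      simp only [← Category.assoc, pullbackSymmetry_hom_comp_fst, pullbackSymmetry_hom_comp_snd] at h
      simpa only [Category.assoc] using h.symm
    · exact hover
    · rw [(cancel_mono (Qf true).ι).mp pullback.condition]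
  have hπ₁ : Q₁.ι ≫ π = a₁ ≫ pushout.inl w₁ w₂ := 𝒬.ι_glueMorphisms τ _ true
  have hπ₂ : Q₂.ι ≫ π = a₂ ≫ pushout.inr w₁ w₂ := 𝒬.ι_glueMorphisms τ _ false
  have hπq : π ≫ q = s'.ker.subschemeι ≫ pullback.fst f₁ f₂ ≫ f₁ := 𝒬.hom_ext _ _ fun b => by
    cases b
    · show Q₂.ι ≫ π ≫ q = Q₂.ι ≫ _
      rw [reassoc_of% hπ₂, hq₂, IsOpenImmersion.lift_fac_assoc, pullback.condition]
      simp only [Category.assoc]
    · show Q₁.ι ≫ π ≫ q = Q₁.ι ≫ _
      rw [reassoc_of% hπ₁, hq₁, IsOpenImmersion.lift_fac_assoc]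
      simp only [Category.assoc]
  haveI : IsProper π := by
    haveI : IsProper (π ≫ q) := by rw [hπq]; infer_instance
    exact IsProper.of_comp π q
  have hsubO : ∀ x : O.toScheme, jY x.1 ∈ Set.range π := by
    intro x
    refine ⟨s'.toImage x, ?_⟩
    have hm : s'.toImage x ∈ Q₁ := by
      show (s'.imageι ≫ pullback.fst f₁ f₂) (s'.toImage x) ∈ O₁
      rw [← Scheme.Hom.comp_apply, s'.toImage_imageι_assoc, pullback.lift_fst, Scheme.Hom.comp_apply]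
      exact hO₁ ⟨_, rfl⟩
    have h1 : π (s'.toImage x) = pushout.inl w₁ w₂ (a₁ ⟨_, hm⟩) := by
      show π (Q₁.ι ⟨_, hm⟩) = _
      rw [← Scheme.Hom.comp_apply, hπ₁, Scheme.Hom.comp_apply]
    have h2 : a₁ ⟨_, hm⟩ = t₁ (U.homOfLE inf_le_left x) := O₁.ι.injective (by
      rw [← Scheme.Hom.comp_apply, IsOpenImmersion.lift_fac, ← Scheme.Hom.comp_apply t₁, IsOpenImmersion.lift_fac]
      show (s'.imageι ≫ pullback.fst f₁ f₂) (s'.toImage x) = _
      rw [← Scheme.Hom.comp_apply, s'.toImage_imageι_assoc, pullback.lift_fst, Scheme.Hom.comp_apply])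
    rw [h1, h2, ← Scheme.Hom.comp_apply]
    show σ₁ _ = _
    rw [← hj₁, Scheme.Hom.comp_apply]
    congr 1
    rw [← Scheme.Hom.comp_apply, Scheme.homOfLE_ι]
    rfl
  have hrange : closure (Set.range jY) ⊆ Set.range π := by
    refine closure_minimal ?_ π.isClosedMap.isClosed_range
    rintro _ ⟨x, rfl⟩
    refine π.isClosedMap.isClosed_range.closure_subset_iff.mpr ?_ (image_closure_subset_closure_image
      jY.continuous ⟨x, hdense x, rfl⟩)
    rintro _ ⟨y, hy, rfl⟩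
    exact hsubO ⟨y, hy⟩
  haveI : QuasiCompact jY := inferInstance
  let p : jY.image ⟶ S := jY.imageι ≫ q
  haveI : UniversallyClosed p := by
    haveI : Surjective (pullback.fst jY.imageι π) := ⟨fun y => by
      have hy : jY.imageι y ∈ (jY.ker.support : Set ↥(pushout w₁ w₂)) := by
        rw [← Scheme.IdealSheafData.range_subschemeι]; exact ⟨y, rfl⟩
      rw [Scheme.Hom.support_ker] at hy
      obtain ⟨x, hx⟩ := hrange hy
      obtain ⟨t, ht, -⟩ := Scheme.Pullback.exists_preimage_pullback y x hx.symm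
      exact ⟨t, ht⟩⟩
    haveI : UniversallyClosed (pullback.fst jY.imageι π ≫ p) := by
      simp only [p]
      rw [← Category.assoc, pullback.condition, Category.assoc, hπq]
      infer_instance
    exact UniversallyClosed.of_comp_surjective (pullback.fst jY.imageι π) p
  haveI : LocallyOfFiniteType p := inferInstance
  haveI : IsSeparated p := inferInstance
  haveI : IsProper p := ⟨⟩
  refine ⟨jY.image, jY.toImage, p, inferInstance, inferInstance, inferInstance, ?_⟩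
  rw [jY.toImage_imageι_assoc, hjg]

end Groth.Agent.StrictST17
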