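import Groth.Agent.StrictST17.CommonTarget
import Groth.Agent.StrictST17.Extend

/-!
# An open piece inside an admissible blow up of a bigger scheme
-/

set_option autoImplicit false
set_option linter.style.haveILetI false
set_option backward.isDefEq.respectTransparency false
set_option backward.isDefEq.respectTransparency.types false

universe u

open CategoryTheory Limits AlgebraicGeometry TopologicalSpace

namespace Groth.Agent.StrictST17

theorem exists_piece_extend (H : FlatteningProp.{u}) {P Z : Scheme.{u}} [CompactSpace P] [QuasiSeparatedSpace P]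
    (W R : P.Opens) (hW : IsCompact (W : Set P)) (hR : IsCompact (R : Set P))
    (φ : Z ⟶ (W : Scheme.{u})) [IsSeparated φ] [LocallyOfFiniteType φ] [QuasiCompact φ]
    [IsOpenImmersion (φ ∣_ (W.ι ⁻¹ᵁ R))] :
    ∃ I : (W : Scheme.{u}).IdealSheafData, BlowUp.IsAdmissibleFor (W.ι ⁻¹ᵁ R) I ∧
      ∀ (A : Z.IdealSheafData), BlowUp.IsAdmissibleFor (φ ⁻¹ᵁ (W.ι ⁻¹ᵁ R)) A →
        ∀ (Z' : Scheme.{u}) (z : Z' ⟶ Z), BlowUp.IsBlowUp z (I.comap φ * A) →
        ∃ (K : P.IdealSheafData) (X : Scheme.{u}) (b : X ⟶ P) (w : Z' ⟶ ((b ⁻¹ᵁ W : X.Opens) : Scheme.{u})),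
          BlowUp.IsBlowUp b K ∧ BlowUp.IsAdmissibleFor R K ∧ IsOpenImmersion w ∧ w ≫ (b ∣_ W) = z ≫ φ := by
  haveI : CompactSpace W.toScheme := isCompact_iff_compactSpace.1 hW
  haveI : QuasiSeparatedSpace W.toScheme := quasiSeparatedSpace_of_quasiSeparated W.ι
  haveI : QuasiCompact W.ι := quasiCompact_ι hW
  have hR' : IsCompact ((W.ι ⁻¹ᵁ R : W.toScheme.Opens) : Set W.toScheme) :=
    QuasiCompact.isCompact_preimage (f := W.ι) _ R.isOpen hR
  obtain ⟨I, hI, hpiece⟩ := exists_piece H φ (W.ι ⁻¹ᵁ R) hR'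
  refine ⟨I, hI, fun A hA Z' z hz => ?_⟩
  obtain ⟨K₀, X₀, b₀, w₀, hb₀, hK₀, hw₀, hwb⟩ := hpiece A hA Z' z hz
  obtain ⟨K, hK, hKW, hKb⟩ := S8857.result P R W hR hW K₀ hK₀
  obtain ⟨X, b, hb⟩ := BlowUpLib.exists_blowUp K
  obtain ⟨e, he⟩ := BlowUpLib.exists_iso hb₀ (hKb X b hb)
  exact ⟨K, X, b, w₀ ≫ e.hom, hb, hK, inferInstance, by rw [Category.assoc, he, hwb]⟩

end Groth.Agent.StrictST17
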