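import Groth.Agent.StrictST17.UnionGlue

/-!
# Gluing two compactifications with separated boundaries
-/

set_option autoImplicit false
set_option linter.style.haveILetI false
set_option backward.isDefEq.respectTransparency false
set_option backward.isDefEq.respectTransparency.types false

universe u

open CategoryTheory Limits AlgebraicGeometry TopologicalSpace

namespace Groth.Agent.StrictST17

set_option maxHeartbeats 1000000 in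
theorem glue_step (H : FlatteningProp.{u}) {S U : Scheme.{u}} [IsNoetherian S] (g : U ⟶ S) [IsSeparated g]
    [LocallyOfFiniteType g] [QuasiCompact g] (U₁ U₂ : U.Opens) (hcov : U₁ ⊔ U₂ = ⊤)
    (hdense : Dense ((U₁ ⊓ U₂ : U.Opens) : Set U))
    {P₁ P₂ V₁ V₂ : Scheme.{u}} (p₁ : P₁ ⟶ S) (p₂ : P₂ ⟶ S) [IsProper p₁] [IsProper p₂]
    (o₁ : V₁ ⟶ P₁) (o₂ : V₂ ⟶ P₂) [IsOpenImmersion o₁] [IsOpenImmersion o₂]
    (h₁ : V₁ ⟶ U) (h₂ : V₂ ⟶ U) [IsProper h₁] [IsProper h₂] (hh₁ : h₁ ≫ g = o₁ ≫ p₁) (hh₂ : h₂ ≫ g = o₂ ≫ p₂)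
    (v₁ : (U₁ : Scheme.{u}) ⟶ V₁) (v₂ : (U₂ : Scheme.{u}) ⟶ V₂) [IsOpenImmersion v₁] [IsOpenImmersion v₂]
    (hv₁ : v₁ ≫ h₁ = U₁.ι) (hv₂ : v₂ ≫ h₂ = U₂.ι)
    (G0 : ((U₁ ⊓ U₂ : U.Opens) : Scheme.{u}) ⟶ pullback p₁ p₂)
    (hG₁ : G0 ≫ pullback.fst p₁ p₂ = U.homOfLE inf_le_left ≫ v₁ ≫ o₁)
    (hG₂ : G0 ≫ pullback.snd p₁ p₂ = U.homOfLE inf_le_right ≫ v₂ ≫ o₂)
    (hC : ∀ z ∈ closure (Set.range G0), pullback.fst p₁ p₂ z ∉ closure (o₁ '' (h₁ ⁻¹' (U₁ : Set U)ᶜ)) ∨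
      pullback.snd p₁ p₂ z ∉ closure (o₂ '' (h₂ ⁻¹' (U₂ : Set U)ᶜ))) :
    ∃ (Y : Scheme.{u}) (j : U ⟶ Y) (p : Y ⟶ S), IsOpenImmersion j ∧ QuasiCompact j ∧ IsProper p ∧ j ≫ p = g := by
  haveI : IsLocallyNoetherian U := LocallyOfFiniteType.isLocallyNoetherian g
  haveI : CompactSpace U := QuasiCompact.compactSpace_of_compactSpace g
  haveI : IsNoetherian U := ⟨⟩
  haveI : IsLocallyNoetherian P₁ := LocallyOfFiniteType.isLocallyNoetherian p₁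
  haveI : CompactSpace P₁ := QuasiCompact.compactSpace_of_compactSpace p₁
  haveI : IsNoetherian P₁ := ⟨⟩
  haveI : IsLocallyNoetherian P₂ := LocallyOfFiniteType.isLocallyNoetherian p₂
  haveI : CompactSpace P₂ := QuasiCompact.compactSpace_of_compactSpace p₂
  haveI : IsNoetherian P₂ := ⟨⟩
  let O : U.Opens := U₁ ⊓ U₂
  -- the residual closed sets
  let W₁ : P₁.Opens := ⟨(closure (o₁ '' (h₁ ⁻¹' (U₁ : Set U)ᶜ)))ᶜ, isClosed_closure.isOpen_compl⟩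
  let W₂ : P₂.Opens := ⟨(closure (o₂ '' (h₂ ⁻¹' (U₂ : Set U)ᶜ)))ᶜ, isClosed_closure.isOpen_compl⟩
  let r₁ := v₁ ≫ o₁
  let r₂ := v₂ ≫ o₂
  have hRW : ∀ {P V : Scheme.{u}} (o : V ⟶ P) [IsOpenImmersion o] (h : V ⟶ U) (Ui : U.Opens) (v : (Ui : Scheme.{u}) ⟶ V),
      v ≫ h = Ui.ι → Set.range (v ≫ o) ⊆ (closure (o '' (h ⁻¹' (Ui : Set U)ᶜ)))ᶜ := by
    rintro P V o _ h Ui v hv _ ⟨x, rfl⟩ hmem
    rw [Scheme.Hom.comp_apply] at hmem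
    have : v x ∈ closure (o ⁻¹' (o '' (h ⁻¹' (Ui : Set U)ᶜ))) := by
      rw [← o.isOpenEmbedding.isOpenMap.preimage_closure_eq_closure_preimage o.continuous]
      exact hmem
    rw [Set.preimage_image_eq _ o.isOpenEmbedding.injective,
      (Ui.isOpen.isClosed_compl.preimage h.continuous).closure_eq] at this
    refine this ?_
    rw [← Scheme.Hom.comp_apply, hv]
    exact x.2
  have hR₁ : r₁.opensRange ≤ W₁ := hRW o₁ h₁ U₁ v₁ hv₁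
  have hR₂ : r₂.opensRange ≤ W₂ := hRW o₂ h₂ U₂ v₂ hv₂
  let R₁ := r₁.opensRange
  let R₂ := r₂.opensRange
  -- the graph inside the good locus
  let a₁ := W₁.ι ≫ p₁
  let a₂ := W₂.ι ≫ p₂
  let mm : pullback a₁ a₂ ⟶ pullback p₁ p₂ := pullback.map _ _ _ _ W₁.ι W₂.ι (𝟙 S) (by simp [a₁]) (by simp [a₂])
  have hin₁ : Set.range (U.homOfLE (inf_le_left : O ≤ U₁) ≫ r₁) ⊆ Set.range W₁.ι := by
    rintro _ ⟨x, rfl⟩; rw [Scheme.Opens.range_ι, Scheme.Hom.comp_apply]; exact hR₁ ⟨_, rfl⟩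
  have hin₂ : Set.range (U.homOfLE (inf_le_right : O ≤ U₂) ≫ r₂) ⊆ Set.range W₂.ι := by
    rintro _ ⟨x, rfl⟩; rw [Scheme.Opens.range_ι, Scheme.Hom.comp_apply]; exact hR₂ ⟨_, rfl⟩
  let ρ₁ := IsOpenImmersion.lift W₁.ι _ hin₁
  let ρ₂ := IsOpenImmersion.lift W₂.ι _ hin₂
  have hρ₁ : ρ₁ ≫ W₁.ι = U.homOfLE inf_le_left ≫ r₁ := IsOpenImmersion.lift_fac _ _ _
  have hρ₂ : ρ₂ ≫ W₂.ι = U.homOfLE inf_le_right ≫ r₂ := IsOpenImmersion.lift_fac _ _ _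
  haveI : IsOpenImmersion ρ₁ := by
    haveI : IsOpenImmersion (ρ₁ ≫ W₁.ι) := by rw [hρ₁]; infer_instance
    exact IsOpenImmersion.of_comp ρ₁ W₁.ι
  haveI : IsOpenImmersion ρ₂ := by
    haveI : IsOpenImmersion (ρ₂ ≫ W₂.ι) := by rw [hρ₂]; infer_instance
    exact IsOpenImmersion.of_comp ρ₂ W₂.ι
  let s : (O : Scheme.{u}) ⟶ pullback a₁ a₂ := pullback.lift ρ₁ ρ₂ (by
    simp only [a₁, a₂]
    rw [reassoc_of% hρ₁, reassoc_of% hρ₂]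
    simp only [r₁, r₂, Category.assoc]
    rw [← hh₁, ← hh₂, reassoc_of% hv₁, reassoc_of% hv₂, Scheme.homOfLE_ι_assoc, Scheme.homOfLE_ι_assoc])
  haveI : CompactSpace O.toScheme := isCompact_iff_compactSpace.1 (NoetherianSpace.isCompact _)
  haveI : QuasiCompact W₁.ι := quasiCompact_ι (NoetherianSpace.isCompact _)
  haveI : QuasiCompact W₂.ι := quasiCompact_ι (NoetherianSpace.isCompact _)
  haveI : QuasiSeparatedSpace (pullback a₁ a₂ : Scheme.{u}) := quasiSeparatedSpace_of_quasiSeparated (pullback.fst a₁ a₂)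
  haveI : QuasiCompact s := quasiCompact_of_compactSpace s
  have hsm : s ≫ mm = G0 := by
    apply pullback.hom_ext
    · rw [Category.assoc, pullback.lift_fst, pullback.lift_fst_assoc, hρ₁, hG₁]
    · rw [Category.assoc, pullback.lift_snd, pullback.lift_snd_assoc, hρ₂, hG₂]
  let φ₁ := s.ker.subschemeι ≫ pullback.fst a₁ a₂
  let φ₂ := s.ker.subschemeι ≫ pullback.snd a₁ a₂
  have hcl : ∀ y : s.ker.subscheme, mm (s.ker.subschemeι y) ∈ closure (Set.range G0) := by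
    intro y
    have hy : s.ker.subschemeι y ∈ closure (Set.range s) := by
      have : s.ker.subschemeι y ∈ (s.ker.support : Set ↥(pullback a₁ a₂)) := by
        rw [← Scheme.IdealSheafData.range_subschemeι]; exact ⟨y, rfl⟩
      rwa [Scheme.Hom.support_ker] at this
    rw [← hsm, Scheme.Hom.comp_base, TopCat.coe_comp, Set.range_comp]
    exact image_closure_subset_closure_image mm.continuous ⟨_, hy, rfl⟩
  have hm₁ : ∀ y, pullback.fst p₁ p₂ (mm y) = W₁.ι (pullback.fst a₁ a₂ y) := fun y => by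
    rw [← Scheme.Hom.comp_apply, pullback.lift_fst, Scheme.Hom.comp_apply]
  have hm₂ : ∀ y, pullback.snd p₁ p₂ (mm y) = W₂.ι (pullback.snd a₁ a₂ y) := fun y => by
    rw [← Scheme.Hom.comp_apply, pullback.lift_snd, Scheme.Hom.comp_apply]
  haveI hi₁ : IsIso (φ₁ ∣_ ρ₁.opensRange) := by
    have := isIso_image_restrict (pullback.fst a₁ a₂) ρ₁.opensRange (ρ₁.isoOpensRange.inv ≫ s)
      (by rw [Category.assoc, pullback.lift_fst, ρ₁.isoOpensRange_inv_comp])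
    rwa [Scheme.Hom.ker_comp_of_isIso] at this
  haveI hi₂ : IsIso (φ₂ ∣_ ρ₂.opensRange) := by
    have := isIso_image_restrict (pullback.snd a₁ a₂) ρ₂.opensRange (ρ₂.isoOpensRange.inv ≫ s)
      (by rw [Category.assoc, pullback.lift_snd, ρ₂.isoOpensRange_inv_comp])
    rwa [Scheme.Hom.ker_comp_of_isIso] at this
  -- over the first piece only the overlap
  have hpre₁ : φ₁ ⁻¹ᵁ (W₁.ι ⁻¹ᵁ R₁) ≤ φ₁ ⁻¹ᵁ ρ₁.opensRange := by
    rintro y ⟨u, hu⟩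
    have hmem : u.1 ∈ U₂ := by
      by_contra hnot
      have := snd_mem_closure g U₁ U₂ O inf_le_left inf_le_right p₁ p₂ h₁ h₂ o₁ o₂ hh₁ hh₂ v₁ v₂ hv₁ hv₂
        G0 hG₁ hG₂ _ (hcl y) u (by rw [hm₁]; exact hu.symm) hnot
      rw [hm₂] at this
      exact (pullback.snd a₁ a₂ (s.ker.subschemeι y)).2 this
    refine ⟨⟨u.1, u.2, hmem⟩, W₁.ι.injective ?_⟩
    rw [← Scheme.Hom.comp_apply, hρ₁, Scheme.Hom.comp_apply]
    refine Eq.trans ?_ hu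
    congr 1
    exact U₁.ι.injective (by rw [← Scheme.Hom.comp_apply, Scheme.homOfLE_ι]; rfl)
  have hpre₂ : φ₂ ⁻¹ᵁ (W₂.ι ⁻¹ᵁ R₂) ≤ φ₂ ⁻¹ᵁ ρ₂.opensRange := by
    rintro y ⟨u, hu⟩
    have hmem : u.1 ∈ U₁ := by
      by_contra hnot
      let sym := (pullbackSymmetry p₁ p₂).hom
      have hG' : G0 ≫ sym ≫ pullback.fst p₂ p₁ = U.homOfLE inf_le_right ≫ v₂ ≫ o₂ := by
        rw [pullbackSymmetry_hom_comp_fst, hG₂]
      have hG'' : G0 ≫ sym ≫ pullback.snd p₂ p₁ = U.homOfLE inf_le_left ≫ v₁ ≫ o₁ := by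
        rw [pullbackSymmetry_hom_comp_snd, hG₁]
      have hz : sym (mm (s.ker.subschemeι y)) ∈ closure (Set.range (G0 ≫ sym)) := by
        rw [Scheme.Hom.comp_base, TopCat.coe_comp, Set.range_comp]
        exact image_closure_subset_closure_image sym.continuous ⟨_, hcl y, rfl⟩
      have := snd_mem_closure g U₂ U₁ O inf_le_right inf_le_left p₂ p₁ h₂ h₁ o₂ o₁ hh₂ hh₁ v₂ v₁ hv₂ hv₁
        (G0 ≫ sym) (by rw [Category.assoc, hG']) (by rw [Category.assoc, hG'']) _ hz u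
        (by rw [← Scheme.Hom.comp_apply, pullbackSymmetry_hom_comp_fst, hm₂]; exact hu.symm) hnot
      rw [← Scheme.Hom.comp_apply, pullbackSymmetry_hom_comp_snd, hm₁] at this
      exact (pullback.fst a₁ a₂ (s.ker.subschemeι y)).2 this
    refine ⟨⟨u.1, hmem, u.2⟩, W₂.ι.injective ?_⟩
    rw [← Scheme.Hom.comp_apply, hρ₂, Scheme.Hom.comp_apply]
    refine Eq.trans ?_ hu
    congr 1
    exact U₂.ι.injective (by rw [← Scheme.Hom.comp_apply, Scheme.homOfLE_ι]; rfl)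
  have hle₁ : ρ₁.opensRange ≤ W₁.ι ⁻¹ᵁ R₁ := by
    rintro _ ⟨t, rfl⟩
    show W₁.ι (ρ₁ t) ∈ R₁
    rw [← Scheme.Hom.comp_apply, hρ₁, Scheme.Hom.comp_apply]
    exact ⟨_, rfl⟩
  have hle₂ : ρ₂.opensRange ≤ W₂.ι ⁻¹ᵁ R₂ := by
    rintro _ ⟨t, rfl⟩
    show W₂.ι (ρ₂ t) ∈ R₂
    rw [← Scheme.Hom.comp_apply, hρ₂, Scheme.Hom.comp_apply]
    exact ⟨_, rfl⟩
  haveI := isOpenImmersion_restrict φ₁ _ _ hle₁ hpre₁
  haveI := isOpenImmersion_restrict φ₂ _ _ hle₂ hpre₂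
  obtain ⟨I₁, hI₁, hpiece₁⟩ := exists_piece_extend H W₁ R₁ (NoetherianSpace.isCompact _) (NoetherianSpace.isCompact _) φ₁
  obtain ⟨I₂, hI₂, hpiece₂⟩ := exists_piece_extend H W₂ R₂ (NoetherianSpace.isCompact _) (NoetherianSpace.isCompact _) φ₂
  have surj₁ : ∀ y ∈ φ₁ ⁻¹ᵁ (W₁.ι ⁻¹ᵁ R₁), ∃ t, s.toImage t = y := fun y hy =>
    exists_toImage_eq s (pullback.fst a₁ a₂) ρ₁ (pullback.lift_fst _ _ _) y (hpre₁ hy)
  have surj₂ : ∀ y ∈ φ₂ ⁻¹ᵁ (W₂.ι ⁻¹ᵁ R₂), ∃ t, s.toImage t = y := fun y hy =>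
    exists_toImage_eq s (pullback.snd a₁ a₂) ρ₂ (pullback.lift_snd _ _ _) y (hpre₂ hy)
  have hφ₁ : s.toImage ≫ φ₁ = ρ₁ := by
    show s.toImage ≫ s.imageι ≫ pullback.fst a₁ a₂ = ρ₁
    rw [s.toImage_imageι_assoc, pullback.lift_fst]
  have hφ₂ : s.toImage ≫ φ₂ = ρ₂ := by
    show s.toImage ≫ s.imageι ≫ pullback.snd a₁ a₂ = ρ₂
    rw [s.toImage_imageι_assoc, pullback.lift_snd]
  have mem₁ : ∀ t, φ₁ (s.toImage t) ∈ W₁.ι ⁻¹ᵁ R₁ := fun t => hle₁ ⟨t, by rw [← Scheme.Hom.comp_apply, hφ₁]⟩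
  have mem₂ : ∀ t, φ₂ (s.toImage t) ∈ W₂.ι ⁻¹ᵁ R₂ := fun t => hle₂ ⟨t, by rw [← Scheme.Hom.comp_apply, hφ₂]⟩
  have hA₂ : BlowUp.IsAdmissibleFor (φ₁ ⁻¹ᵁ (W₁.ι ⁻¹ᵁ R₁)) (I₂.comap φ₂) := by
    refine ⟨MorLib.IdealFG.isFG_comap hI₂.1 φ₂, Set.disjoint_left.2 fun y hy hyR => ?_⟩
    obtain ⟨t, rfl⟩ := surj₁ y hyR
    rw [Scheme.IdealSheafData.support_comap] at hy
    exact Set.disjoint_left.1 hI₂.2 hy (mem₂ t)
  have hA₁ : BlowUp.IsAdmissibleFor (φ₂ ⁻¹ᵁ (W₂.ι ⁻¹ᵁ R₂)) (I₁.comap φ₁) := by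
    refine ⟨MorLib.IdealFG.isFG_comap hI₁.1 φ₁, Set.disjoint_left.2 fun y hy hyR => ?_⟩
    obtain ⟨t, rfl⟩ := surj₂ y hyR
    rw [Scheme.IdealSheafData.support_comap] at hy
    exact Set.disjoint_left.1 hI₁.2 hy (mem₁ t)
  obtain ⟨Z, z, hz⟩ := BlowUpLib.exists_blowUp (I₁.comap φ₁ * I₂.comap φ₂)
  obtain ⟨K₁, X₁, b₁, w₁, hb₁, hK₁, hw₁, hwb₁⟩ := hpiece₁ _ hA₂ Z z hz
  obtain ⟨K₂, X₂, b₂, w₂, hb₂, hK₂, hw₂, hwb₂⟩ := hpiece₂ _ hA₁ Z z (mul_comm (I₁.comap φ₁) (I₂.comap φ₂) ▸ hz)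
  haveI := BlowUpLib.isProper_of_isBlowUp K₁ hb₁ hK₁.1
  haveI := BlowUpLib.isProper_of_isBlowUp K₂ hb₂ hK₂.1
  haveI : IsProper z := BlowUpLib.isProper_of_isBlowUp _ hz (isAdmissibleFor_mul (U := ⊥)
    ⟨MorLib.IdealFG.isFG_comap hI₁.1 φ₁, by simp⟩ ⟨MorLib.IdealFG.isFG_comap hI₂.1 φ₂, by simp⟩).1
  obtain ⟨u₁, hu₁o, hu₁, hu₁r⟩ := exists_lift_open hb₁ r₁ hK₁.2
  obtain ⟨u₂, hu₂o, hu₂, hu₂r⟩ := exists_lift_open hb₂ r₂ hK₂.2
  let O₁ := b₁ ⁻¹ᵁ W₁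
  let O₂ := b₂ ⁻¹ᵁ W₂
  have eo₁ : O₁.ι ≫ b₁ ≫ p₁ = (b₁ ∣_ W₁) ≫ a₁ := by
    simp only [a₁, O₁]; rw [morphismRestrict_ι_assoc]
  have eo₂ : O₂.ι ≫ b₂ ≫ p₂ = (b₂ ∣_ W₂) ≫ a₂ := by
    simp only [a₂, O₂]; rw [morphismRestrict_ι_assoc]
  have hw : w₁ ≫ O₁.ι ≫ b₁ ≫ p₁ = w₂ ≫ O₂.ι ≫ b₂ ≫ p₂ := by
    rw [eo₁, eo₂, reassoc_of% hwb₁, reassoc_of% hwb₂]
    simp only [φ₁, φ₂, Category.assoc, pullback.condition]
  let G := pullback.lift w₁ w₂ hw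
  let μ : pullback (O₁.ι ≫ b₁ ≫ p₁) (O₂.ι ≫ b₂ ≫ p₂) ⟶ pullback a₁ a₂ :=
    pullback.map _ _ _ _ (b₁ ∣_ W₁) (b₂ ∣_ W₂) (𝟙 S) (by rw [Category.comp_id, eo₁]) (by rw [Category.comp_id, eo₂])
  haveI : IsSeparated μ := by
    haveI : IsSeparated (μ ≫ pullback.fst a₁ a₂) := by rw [pullback.lift_fst]; infer_instance
    exact IsSeparated.of_comp μ (pullback.fst a₁ a₂)
  have hG : G ≫ μ = z ≫ s.ker.subschemeι := by
    apply pullback.hom_ext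
    · simp only [G, μ, Category.assoc, pullback.lift_fst, pullback.lift_fst_assoc, hwb₁]; rfl
    · simp only [G, μ, Category.assoc, pullback.lift_snd, pullback.lift_snd_assoc, hwb₂]; rfl
  haveI : IsProper G := by
    haveI : IsProper (G ≫ μ) := by rw [hG]; infer_instance
    exact IsProper.of_comp G μ
  haveI : Mono G := mono_of_mono_fac (pullback.lift_fst w₁ w₂ hw)
  haveI : IsClosedImmersion G := (IsClosedImmersion.iff_isProper_and_mono _).mpr ⟨inferInstance, inferInstance⟩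
  -- the lift of the overlap
  obtain ⟨u₀, hu₀, -⟩ := exists_lift_avoid hz s.toImage (fun t h => by
    rw [Scheme.IdealSheafData.support_mul] at h
    rcases h with h | h <;> rw [SetLike.mem_coe, Scheme.IdealSheafData.support_comap] at h
    · exact Set.disjoint_left.1 hI₁.2 h (mem₁ t)
    · exact Set.disjoint_left.1 hI₂.2 h (mem₂ t))
  have hu₀₁ : u₀ ≫ w₁ ≫ O₁.ι = U.homOfLE inf_le_left ≫ u₁ := by
    refine lift_eq hb₁ (U.homOfLE inf_le_left ≫ r₁) (fun t h => ?_) ?_ (by rw [Category.assoc, hu₁])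
    · rw [Scheme.Hom.comp_apply] at h
      exact Set.disjoint_left.1 hK₁.2 h ⟨_, rfl⟩
    · simp only [Category.assoc, O₁]
      rw [← morphismRestrict_ι, reassoc_of% hwb₁, reassoc_of% hu₀, reassoc_of% hφ₁, hρ₁]
  have hu₀₂ : u₀ ≫ w₂ ≫ O₂.ι = U.homOfLE inf_le_right ≫ u₂ := by
    refine lift_eq hb₂ (U.homOfLE inf_le_right ≫ r₂) (fun t h => ?_) ?_ (by rw [Category.assoc, hu₂])
    · rw [Scheme.Hom.comp_apply] at h
      exact Set.disjoint_left.1 hK₂.2 h ⟨_, rfl⟩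
    · simp only [Category.assoc, O₂]
      rw [← morphismRestrict_ι, reassoc_of% hwb₂, reassoc_of% hu₀, reassoc_of% hφ₂, hρ₂]
  have hgr₁ : u₁ ≫ b₁ ≫ p₁ = U₁.ι ≫ g := by
    rw [reassoc_of% hu₁]; simp only [r₁, Category.assoc]; rw [← hh₁, reassoc_of% hv₁]
  have hgr₂ : u₂ ≫ b₂ ≫ p₂ = U₂.ι ≫ g := by
    rw [reassoc_of% hu₂]; simp only [r₂, Category.assoc]; rw [← hh₂, reassoc_of% hv₂]
  refine glue_pieces g U₁ U₂ hcov hdense (b₁ ≫ p₁) (b₂ ≫ p₂) O₁ O₂ u₁ u₂ hgr₁ hgr₂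
    (fun x hx => hR₁ (show b₁ x ∈ R₁ from hu₁r.le hx)) (fun x hx => hR₂ (show b₂ x ∈ R₂ from hu₂r.le hx))
    w₁ w₂ hw u₀ hu₀₁ hu₀₂ ?_ ?_
  · intro y a ha
    have h1 : W₁.ι (φ₁ (z y)) = r₁ a := by
      rw [← Scheme.Hom.comp_apply φ₁, ← Scheme.Hom.comp_apply z, ← Category.assoc, ← hwb₁, Category.assoc,
        morphismRestrict_ι, Scheme.Hom.comp_apply, Scheme.Hom.comp_apply, ha, ← Scheme.Hom.comp_apply, hu₁]
    obtain ⟨t, ht⟩ := hpre₁ (show z y ∈ φ₁ ⁻¹ᵁ (W₁.ι ⁻¹ᵁ R₁) from ⟨a, h1.symm⟩)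
    have h2 : a = U.homOfLE (inf_le_left : O ≤ U₁) t := by
      refine r₁.isOpenEmbedding.injective ?_
      rw [← h1, ← ht, ← Scheme.Hom.comp_apply, hρ₁, Scheme.Hom.comp_apply]
    rw [h2]
    show (U₁.ι (U.homOfLE (inf_le_left : O ≤ U₁) t)) ∈ U₂
    rw [← Scheme.Hom.comp_apply, Scheme.homOfLE_ι]
    exact t.2.2
  · intro y hy
    let ν : pullback (b₁ ≫ p₁) (b₂ ≫ p₂) ⟶ pullback p₁ p₂ :=
      pullback.map _ _ _ _ b₁ b₂ (𝟙 S) (by simp) (by simp)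
    have hν : ν y ∈ closure (Set.range G0) := by
      have hmem := image_closure_subset_closure_image ν.continuous ⟨y, hy, rfl⟩
      rw [← Set.range_comp, ← TopCat.coe_comp, ← Scheme.Hom.comp_base] at hmem
      have hG0 : pullback.lift (U.homOfLE inf_le_left ≫ u₁) (U.homOfLE inf_le_right ≫ u₂)
          (by rw [Category.assoc, Category.assoc, hgr₁, hgr₂, Scheme.homOfLE_ι_assoc, Scheme.homOfLE_ι_assoc]) ≫ ν = G0 := by
        apply pullback.hom_ext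
        · simp [ν, hG₁, hu₁, r₁]
        · simp [ν, hG₂, hu₂, r₂]
      rwa [hG0] at hmem
    rcases hC _ hν with h | h
    · left
      show b₁ (pullback.fst (b₁ ≫ p₁) (b₂ ≫ p₂) y) ∈ W₁
      rw [← Scheme.Hom.comp_apply, pullback.lift_fst, Scheme.Hom.comp_apply] at h
      exact h
    · right
      show b₂ (pullback.snd (b₁ ≫ p₁) (b₂ ≫ p₂) y) ∈ W₂
      rw [← Scheme.Hom.comp_apply, pullback.lift_snd, Scheme.Hom.comp_apply] at h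
      exact h

end Groth.Agent.StrictST17
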